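import Cfsg.Agent.LieExceptional.SuzukiCN
import Cfsg.Agent.LieExceptional.SuzukiHyp

/-!
# Elements, Sylow 2-subgroups and tori of the Suzuki groups

`Cfsg.Sz F m`, `|F| = 2^(2m+1)`, `m ≥ 1`: trichotomy of the nonidentity elements (no, one or two fixed points
on the ovoid), normaliser of a Sylow 2-subgroup, Sylow 2-subgroups are TI, centralisers of the elements of
odd order.
-/

set_option autoImplicit false

namespace Cfsg.Agent.H98.SzBasic

open scoped MatrixGroups Matrix Pointwise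
open Matrix MulAction
open Cfsg.Agent.LieExceptional
open Cfsg.Agent.LieExceptional.SuzukiBasic Cfsg.Agent.LieExceptional.SuzukiSylow
open Cfsg.Agent.LieExceptional.SuzukiCN

variable {F : Type*} [Field F] [Fintype F] {m : ℕ}

/-- the diagonal elements as elements of the Suzuki group -/
def h (hF : Fintype.card F = 2 ^ (2 * m + 1)) (k : Fˣ) : Cfsg.Sz F m := ⟨H m k, H_mem hF k⟩

/-- the antidiagonal involution as an element of the Suzuki group -/
def w (hF : Fintype.card F = 2 ^ (2 * m + 1)) : Cfsg.Sz F m := ⟨W F, W_mem hF⟩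

/-- the point at infinity as a point of the ovoid -/
def inf (F : Type*) [Field F] (m : ℕ) : Cfsg.suzukiOvoid F m := ⟨Cfsg.suzukiPointInfinity F, infinity_mem_ovoid m⟩

/-- the point zero as a point of the ovoid -/
def zer (F : Type*) [Field F] (m : ℕ) : Cfsg.suzukiOvoid F m := ⟨Cfsg.suzukiPointZero F, zero_mem_ovoid m⟩

/-- the affine points as points of the ovoid -/
def opt (m : ℕ) (x y : F) : Cfsg.suzukiOvoid F m := ⟨pt m x y, pt_mem_ovoid m x y⟩

omit [Fintype F] in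
theorem coe_smul (g : Cfsg.Sz F m) (p : Cfsg.suzukiOvoid F m) :
    ((g • p : Cfsg.suzukiOvoid F m) : Projectivization F (Fin 4 → F)) =
      (g : SL(4, F)) • (p : Projectivization F (Fin 4 → F)) := rfl

omit [Fintype F] in
theorem zer_ne_inf : zer F m ≠ inf F m := fun h => zero_ne_infinity (congrArg Subtype.val h)

theorem finite_ovoid (F : Type*) [Field F] [Fintype F] (m : ℕ) : Finite (Cfsg.suzukiOvoid F m) :=
  Finite.of_equiv _ (ovoidEquiv F m)

theorem coe_h (hF : Fintype.card F = 2 ^ (2 * m + 1)) (k : Fˣ) : ((h hF k : Cfsg.Sz F m) : SL(4, F)) = H m k := rfl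

theorem coe_w (hF : Fintype.card F = 2 ^ (2 * m + 1)) : ((w hF : Cfsg.Sz F m) : SL(4, F)) = W F := rfl

theorem h_one (hF : Fintype.card F = 2 ^ (2 * m + 1)) : h hF (1 : Fˣ) = 1 := Subtype.ext (H_one m)

theorem h_mul (hF : Fintype.card F = 2 ^ (2 * m + 1)) (k l : Fˣ) : h hF (k * l) = h hF k * h hF l :=
  Subtype.ext (H_mul m k l).symm

theorem h_inv (hF : Fintype.card F = 2 ^ (2 * m + 1)) (k : Fˣ) : (h hF k)⁻¹ = h hF k⁻¹ :=
  Subtype.ext (H_inv m k)

theorem h_eq_iff (hF : Fintype.card F = 2 ^ (2 * m + 1)) (k l : Fˣ) : h hF k = h hF l ↔ k = l := by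
  rw [← H_eq_H_iff hF k l]
  exact ⟨fun e => congrArg Subtype.val e, fun e => Subtype.ext e⟩

theorem w_mul_w (hF : Fintype.card F = 2 ^ (2 * m + 1)) : w hF * w hF = 1 := Subtype.ext W_mul_W

theorem w_inv (hF : Fintype.card F = 2 ^ (2 * m + 1)) : (w hF)⁻¹ = w hF :=
  inv_eq_of_mul_eq_one_left (w_mul_w hF)

theorem w_mul_h (hF : Fintype.card F = 2 ^ (2 * m + 1)) (k : Fˣ) : w hF * h hF k = h hF k⁻¹ * w hF :=
  Subtype.ext (W_mul_H m k)

theorem h_mul_u (hF : Fintype.card F = 2 ^ (2 * m + 1)) (k : Fˣ) (a b : F) :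
    h hF k * u hF a b = u hF (k * a) ((k : F) ^ (2 ^ (m + 1) + 1) * b) * h hF k :=
  Subtype.ext (H_mul_U hF k a b)

theorem u_smul_inf (hF : Fintype.card F = 2 ^ (2 * m + 1)) (a b : F) : u hF a b • inf F m = inf F m :=
  Subtype.ext (U_smul_infinity a b)

theorem h_smul_inf (hF : Fintype.card F = 2 ^ (2 * m + 1)) (k : Fˣ) : h hF k • inf F m = inf F m :=
  Subtype.ext (H_smul_infinity k)

theorem w_smul_inf (hF : Fintype.card F = 2 ^ (2 * m + 1)) : w hF • inf F m = zer F m :=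
  Subtype.ext W_smul_infinity

theorem w_smul_zer (hF : Fintype.card F = 2 ^ (2 * m + 1)) : w hF • zer F m = inf F m :=
  Subtype.ext W_smul_zero

theorem h_smul_zer (hF : Fintype.card F = 2 ^ (2 * m + 1)) (k : Fˣ) : h hF k • zer F m = zer F m :=
  Subtype.ext (H_smul_zero hF k)

theorem u_smul_zer (hF : Fintype.card F = 2 ^ (2 * m + 1)) (a b : F) : u hF a b • zer F m = opt m a b :=
  Subtype.ext (U_smul_zero hF a b)

theorem u_smul_opt (hF : Fintype.card F = 2 ^ (2 * m + 1)) (a b x y : F) :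
    u hF a b • opt m x y = opt m (x + a) (y + b + a ^ 2 ^ (m + 1) * x) :=
  Subtype.ext (U_smul_pt hF a b x y)

theorem h_smul_opt (hF : Fintype.card F = 2 ^ (2 * m + 1)) (k : Fˣ) (x y : F) :
    h hF k • opt m x y = opt m (k * x) ((k : F) ^ (2 ^ (m + 1) + 1) * y) :=
  Subtype.ext (H_smul_pt hF k x y)

theorem w_smul_opt (hF : Fintype.card F = 2 ^ (2 * m + 1)) (x y : F) (hz : zc m x y ≠ 0) :
    w hF • opt m x y = opt m (y / zc m x y) (x / zc m x y) :=
  Subtype.ext (W_smul_pt hF x y hz)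

omit [Fintype F] in
theorem opt_eq_iff (x y x' y' : F) : opt m x y = opt m x' y' ↔ x = x' ∧ y = y' := by
  rw [← pt_eq_pt_iff m x y x' y']
  exact ⟨fun e => congrArg Subtype.val e, fun e => Subtype.ext e⟩

omit [Fintype F] in
theorem opt_zero_zero : opt m (0 : F) 0 = zer F m := Subtype.ext (pt_zero_zero m)

omit [Fintype F] in
theorem opt_ne_inf (x y : F) : opt m x y ≠ inf F m := fun e => pt_ne_infinity m x y (congrArg Subtype.val e)

omit [Fintype F] in
theorem point_cases (p : Cfsg.suzukiOvoid F m) : p = inf F m ∨ ∃ x y, p = opt m x y := by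
  rcases (mem_ovoid_iff m _).1 p.2 with e | ⟨x, y, e⟩
  · exact Or.inl (Subtype.ext e)
  · exact Or.inr ⟨x, y, Subtype.ext e⟩

/-- the stabiliser of infinity consists of the `u a b * h k` -/
theorem eq_u_mul_h (hm : 1 ≤ m) (hF : Fintype.card F = 2 ^ (2 * m + 1)) {g : Cfsg.Sz F m}
    (h1 : g • inf F m = inf F m) : ∃ (a b : F) (k : Fˣ), g = u hF a b * h hF k := by
  obtain ⟨a, b, k, e⟩ := eq_U_mul_H_of_fix_infinity hm hF g.2 (congrArg Subtype.val h1)
  exact ⟨a, b, k, Subtype.ext e⟩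

theorem eq_h (hm : 1 ≤ m) (hF : Fintype.card F = 2 ^ (2 * m + 1)) {g : Cfsg.Sz F m}
    (h1 : g • inf F m = inf F m) (h0 : g • zer F m = zer F m) : ∃ k : Fˣ, g = h hF k := by
  obtain ⟨k, e⟩ := eq_H_of_fix_two hm hF g.2 (congrArg Subtype.val h1) (congrArg Subtype.val h0)
  exact ⟨k, Subtype.ext e⟩

/-- Bruhat decomposition in the Suzuki group -/
theorem bruhat' (hm : 1 ≤ m) (hF : Fintype.card F = 2 ^ (2 * m + 1)) (g : Cfsg.Sz F m) :
    (∃ (a b : F) (k : Fˣ), g = u hF a b * h hF k) ∨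
    (∃ (a b : F) (k : Fˣ) (c d : F), g = u hF a b * w hF * h hF k * u hF c d) := by
  rcases bruhat hm hF g.2 with ⟨a, b, k, e⟩ | ⟨a, b, k, c, d, e⟩
  · exact Or.inl ⟨a, b, k, Subtype.ext e⟩
  · exact Or.inr ⟨a, b, k, c, d, Subtype.ext e⟩

theorem u_mul_h_inj (hF : Fintype.card F = 2 ^ (2 * m + 1)) {a b a' b' : F} {k k' : Fˣ}
    (e : u hF a b * h hF k = u hF a' b' * h hF k') : a = a' ∧ b = b' ∧ k = k' :=
  U_mul_H_inj hF (congrArg Subtype.val e)

/-- a nonidentity `u a b` fixes infinity only -/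
theorem u_fix (hF : Fintype.card F = 2 ^ (2 * m + 1)) {a b : F} (hab : ¬ (a = 0 ∧ b = 0))
    {p : Cfsg.suzukiOvoid F m} (hp : u hF a b • p = p) : p = inf F m :=
  Subtype.ext (fixed_of_U hF hab p.2 (congrArg Subtype.val hp))

theorem u_eq_one_iff (hF : Fintype.card F = 2 ^ (2 * m + 1)) (a b : F) : u hF a b = 1 ↔ a = 0 ∧ b = 0 := by
  rw [← u_zero_zero hF, u_eq_iff]

/-- two-transitivity in the useful form -/
theorem exists_move (hF : Fintype.card F = 2 ^ (2 * m + 1)) {p q : Cfsg.suzukiOvoid F m} (hpq : p ≠ q) :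
    ∃ g : Cfsg.Sz F m, g • p = inf F m ∧ g • q = zer F m := by
  obtain ⟨g, hg, h1, h2⟩ := exists_smul_eq hF p.2 q.2 (fun e => hpq (Subtype.ext e))
  exact ⟨⟨g, hg⟩, Subtype.ext h1, Subtype.ext h2⟩

theorem exists_move_inf (hF : Fintype.card F = 2 ^ (2 * m + 1)) (p : Cfsg.suzukiOvoid F m) :
    ∃ g : Cfsg.Sz F m, g • p = inf F m := by
  by_cases hp : p = inf F m
  · exact ⟨1, by rw [one_smul, hp]⟩
  · obtain ⟨g, h1, -⟩ := exists_move hF hp
    exact ⟨g, h1⟩

/-- **Trichotomy**: a nonidentity element has no fixed point, or is conjugate to a diagonal element, or to a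
unipotent one. -/
theorem trichotomy (hm : 1 ≤ m) (hF : Fintype.card F = 2 ^ (2 * m + 1)) {g : Cfsg.Sz F m} (hg : g ≠ 1) :
    g ∈ SuzukiTori.Hyp.free (Cfsg.Sz F m) (Cfsg.suzukiOvoid F m) ∨
    (∃ (y : Cfsg.Sz F m) (k : Fˣ), k ≠ 1 ∧ y * g * y⁻¹ = h hF k) ∨
    (∃ (y : Cfsg.Sz F m) (a b : F), ¬ (a = 0 ∧ b = 0) ∧ y * g * y⁻¹ = u hF a b) := by
  have := finite_ovoid F m
  by_cases hfree : g ∈ SuzukiTori.Hyp.free (Cfsg.Sz F m) (Cfsg.suzukiOvoid F m)
  · exact Or.inl hfree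
  right
  rw [SuzukiTori.Hyp.mem_free_iff] at hfree
  push Not at hfree
  obtain ⟨α, hα⟩ := hfree
  have hconj : ∀ (y : Cfsg.Sz F m), y * g * y⁻¹ ≠ 1 := by
    intro y e
    apply hg
    have : g = y⁻¹ * (y * g * y⁻¹) * y := by group
    rw [this, e]
    group
  by_cases hβ : ∃ β : Cfsg.suzukiOvoid F m, β ≠ α ∧ g • β = β
  · left
    obtain ⟨β, hβ1, hβ2⟩ := hβ
    obtain ⟨y, hyα, hyβ⟩ := exists_move hF hβ1.symm
    have hyα' : y⁻¹ • inf F m = α := by rw [inv_smul_eq_iff, hyα]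
    have hyβ' : y⁻¹ • zer F m = β := by rw [inv_smul_eq_iff, hyβ]
    obtain ⟨k, hk⟩ := eq_h hm hF (g := y * g * y⁻¹) (by rw [mul_smul, mul_smul, hyα', hα, hyα])
      (by rw [mul_smul, mul_smul, hyβ', hβ2, hyβ])
    refine ⟨y, k, ?_, hk⟩
    rintro rfl
    exact hconj y (by rw [hk, h_one])
  · right
    push Not at hβ
    obtain ⟨y, hyα⟩ := exists_move_inf hF α
    have hyα' : y⁻¹ • inf F m = α := by rw [inv_smul_eq_iff, hyα]
    obtain ⟨a, b, hab⟩ := eq_U_of_fix_only_infinity hm hF (y * g * y⁻¹).2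
      (congrArg Subtype.val (show (y * g * y⁻¹) • inf F m = inf F m by
        rw [mul_smul, mul_smul, hyα', hα, hyα])) (by
        intro p hp hfix
        by_contra hne
        have hfix' : (y * g * y⁻¹) • (⟨p, hp⟩ : Cfsg.suzukiOvoid F m) = ⟨p, hp⟩ := Subtype.ext hfix
        refine hβ (y⁻¹ • ⟨p, hp⟩) ?_ ?_
        · intro e
          rw [inv_smul_eq_iff, hyα] at e
          exact hne (congrArg Subtype.val e)
        · rw [eq_inv_smul_iff, ← mul_smul, ← mul_smul]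
          exact hfix')
    refine ⟨y, a, b, ?_, Subtype.ext hab⟩
    rintro ⟨rfl, rfl⟩
    apply hconj y
    apply Subtype.ext
    rw [hab, U_zero_zero]
    rfl

/-- the diagonal elements as a homomorphism -/
def hHom (hF : Fintype.card F = 2 ^ (2 * m + 1)) : Fˣ →* Cfsg.Sz F m where
  toFun := h hF
  map_one' := h_one hF
  map_mul' := h_mul hF

theorem hHom_apply (hF : Fintype.card F = 2 ^ (2 * m + 1)) (k : Fˣ) : hHom hF k = h hF k := rfl

theorem hHom_injective (hF : Fintype.card F = 2 ^ (2 * m + 1)) : Function.Injective (hHom (m := m) hF) :=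
  fun k l e => (h_eq_iff hF k l).1 e

/-- the torus of diagonal elements -/
def T (hF : Fintype.card F = 2 ^ (2 * m + 1)) : Subgroup (Cfsg.Sz F m) := (hHom hF).range

theorem mem_T_iff (hF : Fintype.card F = 2 ^ (2 * m + 1)) (g : Cfsg.Sz F m) : g ∈ T hF ↔ ∃ k, h hF k = g :=
  Iff.rfl

/-- the torus is isomorphic to the multiplicative group -/
noncomputable def equivT (hF : Fintype.card F = 2 ^ (2 * m + 1)) : Fˣ ≃* T hF :=
  MonoidHom.ofInjective (hHom_injective hF)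

theorem card_T (hF : Fintype.card F = 2 ^ (2 * m + 1)) : Nat.card (T hF) = 2 ^ (2 * m + 1) - 1 := by
  rw [← Nat.card_congr (equivT hF).toEquiv, Nat.card_units, Nat.card_eq_fintype_card, hF]

theorem isCyclic_T (hF : Fintype.card F = 2 ^ (2 * m + 1)) : IsCyclic (T hF) :=
  isCyclic_of_surjective (equivT hF) (equivT hF).surjective

theorem centralizer_h (hm : 1 ≤ m) (hF : Fintype.card F = 2 ^ (2 * m + 1)) {k : Fˣ} (hk : k ≠ 1) :
    Subgroup.centralizer ({h hF k} : Set (Cfsg.Sz F m)) = T hF := by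
  ext x
  rw [Subgroup.mem_centralizer_singleton_iff, mem_T_iff]
  constructor
  · intro e
    obtain ⟨l, hl⟩ := eq_H_of_commute hm hF hk x.2 (congrArg Subtype.val e)
    exact ⟨l, Subtype.ext hl.symm⟩
  · rintro ⟨l, rfl⟩
    rw [← h_mul, ← h_mul, mul_comm]

/-- centralisers of conjugates -/
theorem centralizer_conj {G : Type*} [Group G] (y g : G) :
    Subgroup.centralizer ({y * g * y⁻¹} : Set G) = (Subgroup.centralizer ({g} : Set G)).map (MulAut.conj y).toMonoidHom := by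
  ext x
  rw [Subgroup.mem_centralizer_singleton_iff, Subgroup.mem_map]
  constructor
  · intro e
    refine ⟨y⁻¹ * x * y, ?_, ?_⟩
    · rw [Subgroup.mem_centralizer_singleton_iff]
      calc y⁻¹ * x * y * g = y⁻¹ * (x * (y * g * y⁻¹)) * y := by group
        _ = y⁻¹ * ((y * g * y⁻¹) * x) * y := by rw [e]
        _ = g * (y⁻¹ * x * y) := by group
    · show y * (y⁻¹ * x * y) * y⁻¹ = x
      group
  · rintro ⟨z, hz, rfl⟩
    rw [Subgroup.mem_centralizer_singleton_iff] at hz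
    show y * z * y⁻¹ * (y * g * y⁻¹) = y * g * y⁻¹ * (y * z * y⁻¹)
    calc y * z * y⁻¹ * (y * g * y⁻¹) = y * (z * g) * y⁻¹ := by group
      _ = y * (g * z) * y⁻¹ := by rw [hz]
      _ = y * g * y⁻¹ * (y * z * y⁻¹) := by group

theorem card_centralizer_conj {G : Type*} [Group G] (y g : G) :
    Nat.card (Subgroup.centralizer ({y * g * y⁻¹} : Set G)) = Nat.card (Subgroup.centralizer ({g} : Set G)) := by
  rw [centralizer_conj]
  exact Nat.card_congr ((Subgroup.centralizer ({g} : Set G)).equivMapOfInjective _ (MulAut.conj y).injective).symm.toEquiv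

theorem isCyclic_centralizer_conj {G : Type*} [Group G] {y g : G}
    (hc : IsCyclic (Subgroup.centralizer ({y * g * y⁻¹} : Set G))) :
    IsCyclic (Subgroup.centralizer ({g} : Set G)) := by
  rw [centralizer_conj] at hc
  let e := (Subgroup.centralizer ({g} : Set G)).equivMapOfInjective (MulAut.conj y).toMonoidHom (MulAut.conj y).injective
  exact isCyclic_of_surjective e.symm e.symm.surjective

/-- arithmetic: the two torus orders multiply to `q² + 1` -/
theorem mul_tori (m : ℕ) : (2 ^ (2 * m + 1) + 2 ^ (m + 1) + 1) * (2 ^ (2 * m + 1) - 2 ^ (m + 1) + 1) =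
    (2 ^ (2 * m + 1)) ^ 2 + 1 := by
  have hle : 2 ^ (m + 1) ≤ 2 ^ (2 * m + 1) := Nat.pow_le_pow_right (by norm_num) (by omega)
  have hfac : (2 ^ (2 * m + 1)) ^ 2 + 1 =
      (2 ^ (2 * m + 1) + 2 ^ (m + 1) + 1) * (2 ^ (2 * m + 1) - 2 ^ (m + 1) + 1) := by
    zify [hle]
    ring
  exact hfac.symm

/-- the centraliser of a fixed-point-free element is a torus of one of the two orders -/
theorem card_centralizer_free (hm : 1 ≤ m) (hF : Fintype.card F = 2 ^ (2 * m + 1)) {g : Cfsg.Sz F m}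
    (hg : g ∈ SuzukiTori.Hyp.free (Cfsg.Sz F m) (Cfsg.suzukiOvoid F m)) :
    Nat.card (Subgroup.centralizer ({g} : Set (Cfsg.Sz F m))) ∈
      ({2 ^ (2 * m + 1) + 2 ^ (m + 1) + 1, 2 ^ (2 * m + 1) - 2 ^ (m + 1) + 1} : Set ℕ) := by
  have := finite_ovoid F m
  have HH := SuzukiHyp.hyp hm hF
  obtain ⟨p, k, hp, hpq, hk⟩ := HH.exists_prime_pow hg
  have hpc : p ∣ Nat.card (Subgroup.centralizer ({g} : Set (Cfsg.Sz F m))) := by
    rw [← hk]
    exact Subgroup.orderOf_dvd_natCard _ (Subgroup.mem_centralizer_singleton_iff.2 (Commute.self_pow g k).symm)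
  have main : ∀ n ∈ ({2 ^ (2 * m + 1) + 2 ^ (m + 1) + 1, 2 ^ (2 * m + 1) - 2 ^ (m + 1) + 1} : Set ℕ),
      p ∣ n → Nat.card (Subgroup.centralizer ({g} : Set (Cfsg.Sz F m))) = n := by
    intro n hn hpn
    obtain ⟨g₁, hg₁, hc₁, -⟩ := HH.exists_tori rfl n hn
    have h2 : g ∈ SuzukiTori.tset (Subgroup.centralizer ({g₁} : Set (Cfsg.Sz F m))) :=
      HH.mem_tset_of_dvd hg₁ hg hp (by rw [hc₁]; exact hpn) hpc
    obtain ⟨hg1, y, hy⟩ := h2
    have h3 : Subgroup.centralizer ({y⁻¹ * g * y} : Set (Cfsg.Sz F m)) = Subgroup.centralizer {g₁} := by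
      apply HH.centralizer_eq hg₁ hy
      intro e
      apply hg1
      have : g = y * (y⁻¹ * g * y) * y⁻¹ := by group
      rw [this, e]
      group
    have h4 := card_centralizer_conj y⁻¹ g
    rw [inv_inv, h3, hc₁] at h4
    exact h4.symm
  rw [← mul_tori] at hpq
  rcases (hp.dvd_mul).1 hpq with h1 | h1
  · rw [main _ (by simp) h1]; simp
  · rw [main _ (by simp) h1]; simp

/-- the centraliser of a conjugate of a diagonal element -/
theorem card_centralizer_of_conj_h (hm : 1 ≤ m) (hF : Fintype.card F = 2 ^ (2 * m + 1)) {g y : Cfsg.Sz F m}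
    {k : Fˣ} (hk : k ≠ 1) (e : y * g * y⁻¹ = h hF k) :
    Nat.card (Subgroup.centralizer ({g} : Set (Cfsg.Sz F m))) = 2 ^ (2 * m + 1) - 1 ∧
      IsCyclic (Subgroup.centralizer ({g} : Set (Cfsg.Sz F m))) := by
  constructor
  · rw [← card_centralizer_conj y g, e, centralizer_h hm hF hk, card_T]
  · apply isCyclic_centralizer_conj (y := y)
    rw [e, centralizer_h hm hF hk]
    exact isCyclic_T hF

/-- an element fixing infinity normalises the Sylow 2-subgroup `Q` -/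
theorem smul_sylowQ_eq_iff (hm : 1 ≤ m) (hF : Fintype.card F = 2 ^ (2 * m + 1)) (g : Cfsg.Sz F m) :
    g • sylowQ hm hF = sylowQ hm hF ↔ g • inf F m = inf F m := by
  constructor
  · intro e
    rw [Sylow.smul_eq_iff_mem_normalizer] at e
    have e' : g ∈ Subgroup.normalizer ((Q hF : Subgroup (Cfsg.Sz F m)) : Set (Cfsg.Sz F m)) := by
      rw [← coe_sylowQ hm hF]
      exact e
    have h1 : g * u hF 1 0 * g⁻¹ ∈ Q hF := (Subgroup.mem_normalizer_iff.1 e' _).1 ⟨1, 0, rfl⟩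
    obtain ⟨a, b, hab⟩ := h1
    have h2 : u hF a b • (g • inf F m) = g • inf F m := by
      rw [← hab, mul_smul, mul_smul, inv_smul_smul, u_smul_inf]
    apply u_fix hF _ h2
    rintro ⟨rfl, rfl⟩
    rw [u_zero_zero, mul_inv_eq_one] at hab
    have h3 : u hF (1 : F) 0 = 1 := by
      rw [mul_eq_left] at hab
      exact hab
    rw [u_eq_one_iff] at h3
    exact one_ne_zero h3.1
  · intro e
    obtain ⟨a, b, k, rfl⟩ := eq_u_mul_h hm hF e
    rw [Sylow.smul_eq_iff_mem_normalizer]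
    have hQ : ((sylowQ hm hF : Subgroup (Cfsg.Sz F m)) : Set (Cfsg.Sz F m)) = (Q hF : Set (Cfsg.Sz F m)) := by
      rw [coe_sylowQ hm hF]
    show u hF a b * h hF k ∈ Subgroup.normalizer ((sylowQ hm hF : Subgroup (Cfsg.Sz F m)) : Set (Cfsg.Sz F m))
    rw [hQ]
    apply mul_mem
    · apply Subgroup.le_normalizer
      exact ⟨a, b, rfl⟩
    · have hc : ∀ (l : Fˣ) (z : Cfsg.Sz F m), z ∈ Q hF → h hF l * z * (h hF l)⁻¹ ∈ Q hF := by
        rintro l z ⟨a, b, rfl⟩
        refine ⟨l * a, (l : F) ^ (2 ^ (m + 1) + 1) * b, ?_⟩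
        rw [mul_inv_eq_iff_eq_mul, h_mul_u]
      rw [Subgroup.mem_normalizer_iff]
      intro z
      constructor
      · intro hz; exact hc k z hz
      · intro hz
        have h1 := hc k⁻¹ _ hz
        rw [← h_inv, inv_inv] at h1
        have h3 : (h hF k)⁻¹ * (h hF k * z * (h hF k)⁻¹) * h hF k = z := by group
        rw [h3] at h1
        exact h1

theorem mem_smul_sylowQ_iff (hm : 1 ≤ m) (hF : Fintype.card F = 2 ^ (2 * m + 1)) (y g : Cfsg.Sz F m) :
    g ∈ ((y • sylowQ hm hF : Sylow 2 (Cfsg.Sz F m)) : Subgroup (Cfsg.Sz F m)) ↔ ∃ a b, y⁻¹ * g * y = u hF a b := by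
  have h0 : (MulAut.conj y)⁻¹ • g = y⁻¹ * g * y := by
    rw [MulAut.smul_def, MulAut.conj_inv_apply]
  have h1 : g ∈ ((y • sylowQ hm hF : Sylow 2 (Cfsg.Sz F m)) : Subgroup (Cfsg.Sz F m)) ↔
      g ∈ MulAut.conj y • (sylowQ hm hF : Subgroup (Cfsg.Sz F m)) := Iff.rfl
  rw [h1, Subgroup.mem_pointwise_smul_iff_inv_smul_mem, h0, coe_sylowQ, mem_Q_iff]

/-- the Sylow 2-subgroups are TI -/
theorem sylow_eq_of_mem (hm : 1 ≤ m) (hF : Fintype.card F = 2 ^ (2 * m + 1)) {P P' : Sylow 2 (Cfsg.Sz F m)}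
    {g : Cfsg.Sz F m} (hg : g ≠ 1) (h1 : g ∈ (P : Subgroup (Cfsg.Sz F m))) (h2 : g ∈ (P' : Subgroup (Cfsg.Sz F m))) :
    P = P' := by
  have hfin := finite_ovoid F m
  obtain ⟨y, rfl⟩ := MulAction.exists_smul_eq (Cfsg.Sz F m) (sylowQ hm hF) P
  obtain ⟨z, rfl⟩ := MulAction.exists_smul_eq (Cfsg.Sz F m) (sylowQ hm hF) P'
  rw [mem_smul_sylowQ_iff] at h1 h2
  obtain ⟨a, b, hab⟩ := h1
  obtain ⟨c, d, hcd⟩ := h2
  have e1 : g = y * u hF a b * y⁻¹ := by rw [← hab]; group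
  have e2 : g = z * u hF c d * z⁻¹ := by rw [← hcd]; group
  have f1 : u hF c d • ((z⁻¹ * y) • inf F m) = (z⁻¹ * y) • inf F m := by
    rw [← hcd, e1]
    simp only [smul_smul]
    have : z⁻¹ * (y * u hF a b * y⁻¹) * z * (z⁻¹ * y) = (z⁻¹ * y) * u hF a b := by group
    rw [this, mul_smul, u_smul_inf]
  have hcd0 : ¬ (c = 0 ∧ d = 0) := by
    rintro ⟨rfl, rfl⟩
    apply hg
    rw [e2, u_zero_zero]
    group
  have f2 := u_fix hF hcd0 f1
  rw [← smul_sylowQ_eq_iff hm hF, mul_smul, inv_smul_eq_iff] at f2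
  exact f2

end Cfsg.Agent.H98.SzBasic
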