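import Cfsg.Agent.H98.SzBasic

/-!
# The partition of the Suzuki groups
-/

set_option autoImplicit false

namespace Cfsg.Agent.H98.SzPartition

open scoped MatrixGroups Matrix Pointwise
open Matrix MulAction
open Cfsg.Agent.LieExceptional
open Cfsg.Agent.LieExceptional.SuzukiBasic Cfsg.Agent.LieExceptional.SuzukiSylow
open Cfsg.Agent.LieExceptional.SuzukiCN
open Cfsg.Agent.H98.SzBasic

variable {F : Type*} [Field F] [Fintype F] {m : ℕ}

/-- the three orders of the maximal tori -/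
def torusOrders (m : ℕ) : Set ℕ :=
  {2 ^ (2 * m + 1) - 1, 2 ^ (2 * m + 1) + 2 ^ (m + 1) + 1, 2 ^ (2 * m + 1) - 2 ^ (m + 1) + 1}

theorem mem_torusOrders_iff (m n : ℕ) : n ∈ torusOrders m ↔ n = 2 ^ (2 * m + 1) - 1 ∨
    n = 2 ^ (2 * m + 1) + 2 ^ (m + 1) + 1 ∨ n = 2 ^ (2 * m + 1) - 2 ^ (m + 1) + 1 := Iff.rfl

theorem even_q (m : ℕ) : Even (2 ^ (2 * m + 1)) := Nat.even_pow.2 ⟨even_two, by omega⟩

theorem even_r (m : ℕ) : Even (2 ^ (m + 1)) := Nat.even_pow.2 ⟨even_two, by omega⟩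

theorem r_le_q (m : ℕ) : 2 ^ (m + 1) ≤ 2 ^ (2 * m + 1) := Nat.pow_le_pow_right (by norm_num) (by omega)

theorem odd_of_mem {m n : ℕ} (hn : n ∈ torusOrders m) : Odd n := by
  have h1 : 1 ≤ 2 ^ (2 * m + 1) := Nat.one_le_two_pow
  rcases (mem_torusOrders_iff m n).1 hn with rfl | rfl | rfl
  · exact Nat.Even.sub_odd h1 (even_q m) odd_one
  · exact Even.add_one ((even_q m).add (even_r m))
  · exact Even.add_one ((Nat.even_sub (r_le_q m)).mpr ⟨fun _ => even_r m, fun _ => even_q m⟩)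

theorem one_lt_of_mem {m n : ℕ} (hm : 1 ≤ m) (hn : n ∈ torusOrders m) : 1 < n := by
  have h1 : 2 ^ (m + 1) < 2 ^ (2 * m + 1) := Nat.pow_lt_pow_right (by norm_num) (by omega)
  have h2 : 2 ≤ 2 ^ (m + 1) := by
    calc 2 = 2 ^ 1 := rfl
      _ ≤ 2 ^ (m + 1) := Nat.pow_le_pow_right (by norm_num) (by omega)
  rcases (mem_torusOrders_iff m n).1 hn with rfl | rfl | rfl <;> omega

/-- a prime divides at most one of the three orders -/
theorem eq_of_prime_dvd {m n n' : ℕ} (hn : n ∈ torusOrders m) (hn' : n' ∈ torusOrders m) {p : ℕ}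
    (hp : p.Prime) (h1 : p ∣ n) (h2 : p ∣ n') : n = n' := by
  have hp2 : p ≠ 2 := by
    rintro rfl
    exact (Nat.not_even_iff_odd.mpr (odd_of_mem hn)) (even_iff_two_dvd.mpr h1)
  have hq1 : 1 ≤ 2 ^ (2 * m + 1) := Nat.one_le_two_pow
  have hle := r_le_q m
  -- `p` does not divide both `q - 1` and `q² + 1`
  have key1 : ¬ (p ∣ 2 ^ (2 * m + 1) - 1 ∧ p ∣ (2 ^ (2 * m + 1)) ^ 2 + 1) := by
    rintro ⟨h3, h4⟩
    have h5 : (p : ℤ) ∣ 2 ^ (2 * m + 1) - 1 := by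
      have := Int.natCast_dvd_natCast.2 h3
      rwa [Nat.cast_sub hq1, Nat.cast_pow, Nat.cast_one, Nat.cast_ofNat] at this
    have h6 : (p : ℤ) ∣ (2 ^ (2 * m + 1)) ^ 2 + 1 := by exact_mod_cast h4
    have h7 : (p : ℤ) ∣ 2 := by
      have h8 := dvd_sub h6 (h5.mul_right (2 ^ (2 * m + 1) + 1))
      have h9 : ((2 : ℤ) ^ (2 * m + 1)) ^ 2 + 1 - (2 ^ (2 * m + 1) - 1) * (2 ^ (2 * m + 1) + 1) = 2 := by ring
      rwa [h9] at h8
    have h10 : p ∣ 2 := by exact_mod_cast h7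
    exact hp2 ((Nat.prime_dvd_prime_iff_eq hp Nat.prime_two).1 h10)
  have key2 : ¬ (p ∣ 2 ^ (2 * m + 1) + 2 ^ (m + 1) + 1 ∧ p ∣ 2 ^ (2 * m + 1) - 2 ^ (m + 1) + 1) := by
    rintro ⟨h3, h4⟩
    have h5 : p ∣ (2 ^ (2 * m + 1) + 2 ^ (m + 1) + 1) - (2 ^ (2 * m + 1) - 2 ^ (m + 1) + 1) := Nat.dvd_sub h3 h4
    have h6 : (2 ^ (2 * m + 1) + 2 ^ (m + 1) + 1) - (2 ^ (2 * m + 1) - 2 ^ (m + 1) + 1) = 2 ^ (m + 2) := by
      rw [pow_succ 2 (m + 1)]
      omega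
    rw [h6] at h5
    exact hp2 ((Nat.prime_dvd_prime_iff_eq hp Nat.prime_two).1 (hp.dvd_of_dvd_pow h5))
  have key3 : ∀ {n}, (n = 2 ^ (2 * m + 1) + 2 ^ (m + 1) + 1 ∨ n = 2 ^ (2 * m + 1) - 2 ^ (m + 1) + 1) → p ∣ n →
      p ∣ (2 ^ (2 * m + 1)) ^ 2 + 1 := by
    intro n hn hpn
    rw [← mul_tori]
    rcases hn with rfl | rfl
    · exact hpn.mul_right _
    · exact hpn.mul_left _
  rcases (mem_torusOrders_iff m n).1 hn with e | e
  · rcases (mem_torusOrders_iff m n').1 hn' with e' | e'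
    · rw [e, e']
    · rw [e] at h1
      exact absurd ⟨h1, key3 e' h2⟩ key1
  · rcases (mem_torusOrders_iff m n').1 hn' with e' | e'
    · rw [e'] at h2
      exact absurd ⟨h2, key3 e h1⟩ key1
    · rcases e with e | e <;> rcases e' with e' | e'
      · rw [e, e']
      · rw [e] at h1; rw [e'] at h2
        exact absurd ⟨h1, h2⟩ key2
      · rw [e] at h1; rw [e'] at h2
        exact absurd ⟨h2, h1⟩ key2
      · rw [e, e']

theorem eq_of_dvd {m n n' : ℕ} (hm : 1 ≤ m) (hn : n ∈ torusOrders m) (hn' : n' ∈ torusOrders m)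
    (h1 : n ∣ n') : n = n' := by
  obtain ⟨p, hp, hpn⟩ := Nat.exists_prime_and_dvd (one_lt_of_mem hm hn).ne'
  exact eq_of_prime_dvd hn hn' hp hpn (hpn.trans h1)

/-- a nonidentity element lies in a Sylow 2-subgroup, or its centraliser is a cyclic torus -/
theorem sylow_or_torus (hm : 1 ≤ m) (hF : Fintype.card F = 2 ^ (2 * m + 1)) {g : Cfsg.Sz F m} (hg : g ≠ 1) :
    (∃ P : Sylow 2 (Cfsg.Sz F m), g ∈ (P : Subgroup (Cfsg.Sz F m))) ∨
    (IsCyclic (Subgroup.centralizer ({g} : Set (Cfsg.Sz F m))) ∧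
      Nat.card (Subgroup.centralizer ({g} : Set (Cfsg.Sz F m))) ∈ torusOrders m) := by
  rcases trichotomy hm hF hg with e | ⟨y, k, hk, e⟩ | ⟨y, a, b, hab, e⟩
  · right
    refine ⟨SuzukiHyp.isCyclic_centralizer hm hF e, ?_⟩
    have := card_centralizer_free hm hF e
    rw [mem_torusOrders_iff]
    rcases this with h1 | h1
    · exact Or.inr (Or.inl h1)
    · exact Or.inr (Or.inr h1)
  · right
    obtain ⟨h1, h2⟩ := card_centralizer_of_conj_h hm hF hk e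
    exact ⟨h2, by rw [h1]; exact Or.inl rfl⟩
  · left
    refine ⟨y⁻¹ • sylowQ hm hF, ?_⟩
    rw [mem_smul_sylowQ_iff]
    exact ⟨a, b, by rw [inv_inv]; exact e⟩

omit [Fintype F] in
/-- elements of a Sylow 2-subgroup have order a power of two -/
theorem not_both {g : Cfsg.Sz F m} (hg : g ≠ 1) {P : Sylow 2 (Cfsg.Sz F m)}
    (h1 : g ∈ (P : Subgroup (Cfsg.Sz F m))) (U : Subgroup (Cfsg.Sz F m)) (hU : g ∈ U)
    (hc : Nat.card U ∈ torusOrders m) : False := by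
  obtain ⟨k, hk⟩ := P.2 ⟨g, h1⟩
  have h2 : g ^ 2 ^ k = 1 := congrArg Subtype.val hk
  have h3 : orderOf g ∣ 2 ^ k := orderOf_dvd_of_pow_eq_one h2
  have h4 : orderOf g ∣ Nat.card U := Subgroup.orderOf_dvd_natCard _ hU
  have h5 : Nat.Coprime (2 ^ k) (Nat.card U) := (Nat.coprime_two_left.2 (odd_of_mem hc)).pow_left k
  have h6 : orderOf g = 1 := Nat.eq_one_of_dvd_coprimes h5 h3 h4
  exact hg (orderOf_eq_one_iff.1 h6)

/-- a cyclic subgroup of torus order containing `g ≠ 1` is the centraliser of `g` -/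
theorem eq_centralizer (hm : 1 ≤ m) (hF : Fintype.card F = 2 ^ (2 * m + 1)) {g : Cfsg.Sz F m} (hg : g ≠ 1)
    {U : Subgroup (Cfsg.Sz F m)} (hU : g ∈ U) (hUc : IsCyclic U) (hc : Nat.card U ∈ torusOrders m) :
    U = Subgroup.centralizer ({g} : Set (Cfsg.Sz F m)) := by
  have hle : U ≤ Subgroup.centralizer ({g} : Set (Cfsg.Sz F m)) := by
    intro x hx
    rw [Subgroup.mem_centralizer_singleton_iff]
    let := hUc.commGroup
    exact congrArg Subtype.val (mul_comm (⟨x, hx⟩ : U) ⟨g, hU⟩)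
  rcases sylow_or_torus hm hF hg with ⟨P, hP⟩ | ⟨h1, h2⟩
  · exact (not_both hg hP U hU hc).elim
  · have h3 := eq_of_dvd hm hc h2 (Subgroup.card_dvd_of_le hle)
    have : Finite (Subgroup.centralizer ({g} : Set (Cfsg.Sz F m))) :=
      Nat.finite_of_card_ne_zero (by have := one_lt_of_mem hm h2; omega)
    exact Subgroup.eq_of_le_of_card_ge hle h3.ge

end Cfsg.Agent.H98.SzPartition
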