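import Cfsg.Agent.H98.SzBasic

/-!
# Real 2-elements of the Suzuki groups are involutions
-/

set_option autoImplicit false

namespace Cfsg.Agent.H98.SzReal

open scoped MatrixGroups Matrix Pointwise
open Matrix MulAction
open Cfsg.Agent.LieExceptional
open Cfsg.Agent.LieExceptional.SuzukiBasic Cfsg.Agent.LieExceptional.SuzukiSylow
open Cfsg.Agent.LieExceptional.SuzukiCN
open Cfsg.Agent.H98.SzBasic

variable {F : Type*} [Field F] [Fintype F] {m : ℕ}

/-- `t^σ + t = 1` has no solution -/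
theorem sigma_add_ne_one (hF : Fintype.card F = 2 ^ (2 * m + 1)) (t : F) : t ^ 2 ^ (m + 1) + t ≠ 1 := by
  intro e
  have := charP_two hF
  have h2 : (2 : F) = 0 := CharTwo.two_eq_zero
  have h1 : t ^ 2 + t ^ 2 ^ (m + 1) = 1 := by
    have h3 := congrArg (fun x : F => x ^ 2 ^ (m + 1)) e
    simp only [one_pow] at h3
    rw [sigma_add hF, sigma_sigma hF] at h3
    exact h3
  have h4 : t * (t + 1) = 0 := by
    linear_combination h1 + e - t ^ 2 ^ (m + 1) * h2 + h2
  rcases mul_eq_zero.1 h4 with h5 | h5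
  · rw [h5, zero_pow (sigma_ne_zero m), zero_add] at e
    exact zero_ne_one e
  · have h6 : t = 1 := by linear_combination h5 - h2
    rw [h6, one_pow] at e
    have h7 : (1 : F) = 0 := by linear_combination e
    exact one_ne_zero h7

theorem eq_zero_of_conj_inv (hm : 1 ≤ m) (hF : Fintype.card F = 2 ^ (2 * m + 1)) {a b : F} {x : Cfsg.Sz F m}
    (hx : x * u hF a b * x⁻¹ = (u hF a b)⁻¹) : a = 0 := by
  by_contra ha
  have := charP_two hF
  have h2 : (2 : F) = 0 := CharTwo.two_eq_zero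
  have h1 : u hF a (b + a ^ (2 ^ (m + 1) + 1)) • (x • inf F m) = x • inf F m := by
    rw [← u_inv, ← hx, mul_smul, mul_smul, inv_smul_smul, u_smul_inf]
  have h3 : x • inf F m = inf F m := u_fix hF (fun e => ha e.1) h1
  obtain ⟨c, d, k, rfl⟩ := eq_u_mul_h hm hF h3
  rw [mul_inv_eq_iff_eq_mul, mul_assoc, h_mul_u, ← mul_assoc, u_mul, u_inv, ← mul_assoc (u hF a _), u_mul] at hx
  obtain ⟨e1, e2, -⟩ := u_mul_h_inj hF hx
  have hk : (k : F) = 1 := by
    apply mul_right_cancel₀ ha
    rw [one_mul]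
    linear_combination e1
  rw [hk, one_mul, one_pow, one_mul] at e2
  apply sigma_add_ne_one hF (c / a)
  rw [div_pow]
  field_simp
  rw [pow_succ a] at e2
  linear_combination e2 + (a ^ 2 ^ (m + 1) * c) * h2

end Cfsg.Agent.H98.SzReal
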