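import Cfsg.Agent.H98.SzBasic

/-!
# Subfield subgroups of the Suzuki groups: conjugacy

An injective homomorphism `φ : Sz K k → Sz F m` becomes, after a conjugation, one mapping `w` to `w`, diagonal
elements to diagonal elements and `Q` into `Q`; then its range is determined.
-/

set_option autoImplicit false

namespace Cfsg.Agent.H98.SzSubConj

open scoped MatrixGroups Matrix Pointwise
open Matrix MulAction
open Cfsg.Agent.LieExceptional
open Cfsg.Agent.LieExceptional.SuzukiBasic Cfsg.Agent.LieExceptional.SuzukiSylow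
open Cfsg.Agent.LieExceptional.SuzukiCN
open Cfsg.Agent.H98.SzBasic

variable {F : Type*} [Field F] [Fintype F] {m : ℕ} {K : Type*} [Field K] [Fintype K] {k : ℕ}

/-- an element of `K^×` different from `1` -/
theorem exists_unit_ne_one (hk : 1 ≤ k) (hK : Fintype.card K = 2 ^ (2 * k + 1)) : ∃ l : Kˣ, l ≠ 1 := by
  classical
  have h1 : Fintype.card Kˣ = 2 ^ (2 * k + 1) - 1 := by rw [Fintype.card_units, hK]
  have h2 : 2 ^ 3 ≤ 2 ^ (2 * k + 1) := Nat.pow_le_pow_right (by norm_num) (by omega)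
  have : Nontrivial Kˣ := Fintype.one_lt_card_iff_nontrivial.1 (by omega)
  exact exists_ne 1

theorem unit_eq_one_of_pow_two_pow (hK : Fintype.card K = 2 ^ (2 * k + 1)) {l : Kˣ} {j : ℕ} (hl : l ^ 2 ^ j = 1) :
    l = 1 := by
  have := charP_two hK
  apply Units.ext
  rw [Units.val_one]
  have h1 : (l : K) ^ 2 ^ j = 1 := by
    have := congrArg Units.val hl
    simpa using this
  have h2 : iterateFrobenius K 2 j (l : K) = iterateFrobenius K 2 j 1 := by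
    rw [iterateFrobenius_def, iterateFrobenius_def, one_pow]
    exact h1
  exact (iterateFrobenius K 2 j).injective h2

/-- product of two elements of the Borel subgroup -/
theorem uh_mul_uh (hF : Fintype.card F = 2 ^ (2 * m + 1)) (a b c d : F) (κ l : Fˣ) :
    (u hF a b * h hF κ) * (u hF c d * h hF l) =
      u hF (a + κ * c) (b + (κ : F) ^ (2 ^ (m + 1) + 1) * d + a ^ 2 ^ (m + 1) * (κ * c)) * h hF (κ * l) := by
  rw [mul_assoc, ← mul_assoc (h hF κ), h_mul_u, mul_assoc, ← h_mul, ← mul_assoc, u_mul]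

theorem u_pow_four (hF : Fintype.card F = 2 ^ (2 * m + 1)) (a b : F) : u hF a b ^ 4 = 1 := by
  have := qu_pow_four hF a b
  exact congrArg Subtype.val this

/-- Step 1: conjugate the image of `Q` into `Q`. -/
theorem step1 (hm : 1 ≤ m) (hF : Fintype.card F = 2 ^ (2 * m + 1)) (hK : Fintype.card K = 2 ^ (2 * k + 1))
    (φ : Cfsg.Sz K k →* Cfsg.Sz F m) :
    ∃ y : Cfsg.Sz F m, ∀ a b : K, ∃ a' b' : F, y⁻¹ * φ (u hK a b) * y = u hF a' b' := by
  have := finite_ovoid F m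
  have : Fact (Nat.Prime 2) := ⟨Nat.prime_two⟩
  have hp : IsPGroup 2 ((Q hK).map φ) := (isPGroup_Q hK).map φ
  obtain ⟨P, hP⟩ := hp.exists_le_sylow
  obtain ⟨y, rfl⟩ := MulAction.exists_smul_eq (Cfsg.Sz F m) (sylowQ hm hF) P
  exact ⟨y, fun a b => (mem_smul_sylowQ_iff hm hF y _).1 (hP ⟨_, ⟨a, b, rfl⟩, rfl⟩)⟩

/-- the conjugate of a homomorphism -/
def cj {G H : Type*} [Group G] [Group H] (φ : G →* H) (y : H) : G →* H :=
  (MulAut.conj y).toMonoidHom.comp φ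

theorem cj_apply {G H : Type*} [Group G] [Group H] (φ : G →* H) (y : H) (g : G) :
    cj φ y g = y * φ g * y⁻¹ := rfl

theorem cj_injective {G H : Type*} [Group G] [Group H] {φ : G →* H} (hφ : Function.Injective φ) (y : H) :
    Function.Injective (cj φ y) := (MulAut.conj y).injective.comp hφ

theorem cj_cj {G H : Type*} [Group G] [Group H] (φ : G →* H) (y z : H) : cj (cj φ y) z = cj φ (z * y) := by
  ext g
  rw [cj_apply, cj_apply, cj_apply]
  group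

theorem range_cj {G H : Type*} [Group G] [Group H] (φ : G →* H) (y : H) :
    (cj φ y).range = φ.range.map (MulAut.conj y).toMonoidHom := by
  rw [cj, MonoidHom.range_comp]

/-- Step 2: the diagonal elements fix infinity. -/
theorem step2 (hF : Fintype.card F = 2 ^ (2 * m + 1)) (hK : Fintype.card K = 2 ^ (2 * k + 1))
    {φ : Cfsg.Sz K k →* Cfsg.Sz F m} (hφ : Function.Injective φ)
    (hQ : ∀ a b : K, ∃ a' b' : F, φ (u hK a b) = u hF a' b') (l : Kˣ) :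
    φ (h hK l) • inf F m = inf F m := by
  obtain ⟨a, b, hab⟩ := hQ 1 0
  obtain ⟨c, d, hcd⟩ := hQ (l * 1) ((l : K) ^ (2 ^ (k + 1) + 1) * 0)
  have h1 : φ (h hK l) * u hF a b * (φ (h hK l))⁻¹ = u hF c d := by
    rw [← hab, ← hcd, mul_inv_eq_iff_eq_mul, ← map_mul, ← map_mul, h_mul_u]
  have h2 : u hF c d • (φ (h hK l) • inf F m) = φ (h hK l) • inf F m := by
    rw [← h1, mul_smul, mul_smul, inv_smul_smul, u_smul_inf]
  apply u_fix hF _ h2
  intro h3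
  rw [← u_eq_one_iff hF, ← hcd, ← map_one φ] at h3
  have h4 := hφ h3
  rw [u_eq_one_iff, mul_one] at h4
  exact l.ne_zero h4.1

/-- Step 3: `φ w` does not fix infinity. -/
theorem step3 (hm : 1 ≤ m) (hk : 1 ≤ k) (hF : Fintype.card F = 2 ^ (2 * m + 1)) (hK : Fintype.card K = 2 ^ (2 * k + 1))
    {φ : Cfsg.Sz K k →* Cfsg.Sz F m} (hφ : Function.Injective φ)
    (hQ : ∀ a b : K, ∃ a' b' : F, φ (u hK a b) = u hF a' b') :
    φ (w hK) • inf F m ≠ inf F m := by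
  intro e
  obtain ⟨l, hl⟩ := exists_unit_ne_one hk hK
  obtain ⟨a, b, κ, h1⟩ := eq_u_mul_h hm hF (step2 hF hK hφ hQ l)
  obtain ⟨a', b', κ', h1'⟩ := eq_u_mul_h hm hF (step2 hF hK hφ hQ l⁻¹)
  obtain ⟨c, d, μ, h2⟩ := eq_u_mul_h hm hF e
  -- `h l⁻¹` has component `κ⁻¹`
  have h3 : (1 : Cfsg.Sz F m) = φ (h hK l) * φ (h hK l⁻¹) := by
    rw [← map_mul, ← h_mul, mul_inv_cancel, h_one, map_one]
  rw [h1, h1', uh_mul_uh] at h3
  have h3' : u hF (0 : F) 0 * h hF (1 : Fˣ) = u hF (a + κ * a') (b + (κ : F) ^ (2 ^ (m + 1) + 1) * b' +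
      a ^ 2 ^ (m + 1) * (κ * a')) * h hF (κ * κ') := by
    rw [← h3, u_zero_zero, h_one, one_mul]
  have h4 := (u_mul_h_inj hF h3').2.2
  -- `w h l = h l⁻¹ w`
  have h5 : φ (w hK) * φ (h hK l) = φ (h hK l⁻¹) * φ (w hK) := by
    rw [← map_mul, ← map_mul, w_mul_h]
  rw [h1, h1', h2, uh_mul_uh, uh_mul_uh] at h5
  have h6 := (u_mul_h_inj hF h5).2.2
  have h7 : κ = κ' := by
    rw [mul_comm κ' μ] at h6
    exact mul_left_cancel h6
  rw [← h7] at h4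
  have h8 : κ = 1 := unit_eq_one_of_pow_two_pow hF (j := 1) (by rw [pow_one, pow_two]; exact h4.symm)
  rw [h8, h_one, mul_one] at h1
  have h9 : h hK (l ^ 4) = 1 := by
    apply hφ
    have : hHom hK (l ^ 4) = (h hK l) ^ 4 := by rw [map_pow, hHom_apply]
    rw [← hHom_apply, this, map_pow, h1, u_pow_four, map_one]
  rw [← h_one hK, h_eq_iff] at h9
  exact hl (unit_eq_one_of_pow_two_pow hK (j := 2) h9)

/-- square roots in `F^×` -/
theorem exists_sq (hF : Fintype.card F = 2 ^ (2 * m + 1)) (j : Fˣ) : ∃ t : Fˣ, t * t = j := by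
  have hinj : Function.Injective (fun t : Fˣ => t * t) := by
    intro s t e
    have e' : s * s = t * t := e
    have h1 : (s * t⁻¹) ^ 2 ^ 1 = 1 := by
      rw [pow_one, pow_two, mul_mul_mul_comm, e', mul_mul_mul_comm, mul_inv_cancel, mul_one]
    have h2 := unit_eq_one_of_pow_two_pow hF h1
    exact mul_inv_eq_one.1 h2
  exact Finite.surjective_of_injective hinj j

/-- **Normalisation**: after conjugation `Q` goes into `Q`, `w` to `w`. -/
theorem normalise (hm : 1 ≤ m) (hk : 1 ≤ k) (hF : Fintype.card F = 2 ^ (2 * m + 1))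
    (hK : Fintype.card K = 2 ^ (2 * k + 1)) {φ : Cfsg.Sz K k →* Cfsg.Sz F m} (hφ : Function.Injective φ) :
    ∃ y : Cfsg.Sz F m, (∀ a b : K, ∃ a' b' : F, cj φ y (u hK a b) = u hF a' b') ∧ cj φ y (w hK) = w hF ∧
      ∀ l : Kˣ, ∃ l' : Fˣ, cj φ y (h hK l) = h hF l' := by
  obtain ⟨y₁, hy₁⟩ := step1 hm hF hK φ
  -- first conjugation
  have hQ1 : ∀ a b : K, ∃ a' b' : F, cj φ y₁⁻¹ (u hK a b) = u hF a' b' := by
    intro a b
    rw [cj_apply, inv_inv]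
    exact hy₁ a b
  have hi1 := cj_injective hφ y₁⁻¹
  have h3 := step3 hm hk hF hK hi1 hQ1
  obtain h4 | ⟨x, z, h4⟩ := point_cases (cj φ y₁⁻¹ (w hK) • inf F m)
  · exact absurd h4 h3
  -- second conjugation
  let y₂ : Cfsg.Sz F m := (u hF x z)⁻¹ * y₁⁻¹
  have hQ2 : ∀ a b : K, ∃ a' b' : F, cj φ y₂ (u hK a b) = u hF a' b' := by
    intro a b
    obtain ⟨a', b', e⟩ := hQ1 a b
    rw [← cj_cj, cj_apply, e, u_inv, u_mul, u_inv, u_mul]
    exact ⟨_, _, rfl⟩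
  have hi2 := cj_injective hφ y₂
  have h5 : cj φ y₂ (w hK) • inf F m = zer F m := by
    rw [← cj_cj, cj_apply, mul_smul, mul_smul, inv_inv, u_smul_inf, h4, inv_smul_eq_iff, u_smul_zer]
  have h6 : cj φ y₂ (w hK) • zer F m = inf F m := by
    rw [← h5, smul_smul, ← map_mul, w_mul_w, map_one, one_smul]
  obtain ⟨j, hj⟩ := eq_h hm hF (g := w hF * cj φ y₂ (w hK)) (by rw [mul_smul, h5, w_smul_zer])
    (by rw [mul_smul, h6, w_smul_inf])
  have h7 : cj φ y₂ (w hK) = w hF * h hF j := by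
    rw [← hj, ← mul_assoc, w_mul_w, one_mul]
  obtain ⟨t, ht⟩ := exists_sq hF j
  -- third conjugation
  refine ⟨h hF t * y₂, ?_, ?_, ?_⟩
  · intro a b
    obtain ⟨a', b', e⟩ := hQ2 a b
    refine ⟨t * a', (t : F) ^ (2 ^ (m + 1) + 1) * b', ?_⟩
    rw [← cj_cj, cj_apply, e, mul_inv_eq_iff_eq_mul, h_mul_u]
  · rw [← cj_cj, cj_apply, h7, ← mul_assoc, ← inv_inv t, ← w_mul_h, mul_assoc, mul_assoc, inv_inv, h_inv,
      ← h_mul, ← h_mul, ← ht]
    have : t⁻¹ * (t * t * t⁻¹) = 1 := by group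
    rw [this, h_one, mul_one]
  · intro l
    have h8 := step2 hF hK hi2 hQ2 l
    have h8' := step2 hF hK hi2 hQ2 l⁻¹
    have h9 : cj φ y₂ (h hK l) • zer F m = zer F m := by
      rw [← h5, smul_smul, ← map_mul]
      have : h hK l * w hK = w hK * h hK l⁻¹ := by rw [w_mul_h, inv_inv]
      rw [this, map_mul, mul_smul, h8']
    obtain ⟨l', hl'⟩ := eq_h hm hF h8 h9
    refine ⟨l', ?_⟩
    rw [← cj_cj, cj_apply, hl', h_inv, ← h_mul, ← h_mul]
    congr 1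
    rw [mul_comm t, mul_assoc, mul_inv_cancel, mul_one]

/-! ### The range of a normalised homomorphism -/

/-- a normalised homomorphism -/
structure Norm (hF : Fintype.card F = 2 ^ (2 * m + 1)) (hK : Fintype.card K = 2 ^ (2 * k + 1))
    (φ : Cfsg.Sz K k →* Cfsg.Sz F m) : Prop where
  inj : Function.Injective φ
  mapsQ : ∀ a b : K, ∃ a' b' : F, φ (u hK a b) = u hF a' b'
  mapsw : φ (w hK) = w hF
  mapsh : ∀ l : Kˣ, ∃ l' : Fˣ, φ (h hK l) = h hF l'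

/-- the parameters of the elements of `φ(Q)` -/
def TT (hF : Fintype.card F = 2 ^ (2 * m + 1)) (hK : Fintype.card K = 2 ^ (2 * k + 1))
    (φ : Cfsg.Sz K k →* Cfsg.Sz F m) (a' b' : F) : Prop := ∃ a b : K, φ (u hK a b) = u hF a' b'

theorem pow_sub_one (hF : Fintype.card F = 2 ^ (2 * m + 1)) (hK : Fintype.card K = 2 ^ (2 * k + 1))
    {φ : Cfsg.Sz K k →* Cfsg.Sz F m} {l : Kˣ} {x : Fˣ} (e : φ (h hK l) = h hF x) :
    x ^ (2 ^ (2 * k + 1) - 1) = 1 := by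
  classical
  have h1 : l ^ (2 ^ (2 * k + 1) - 1) = 1 := by
    rw [← hK, ← Fintype.card_units, pow_card_eq_one]
  have h2 : hHom hF (x ^ (2 ^ (2 * k + 1) - 1)) = φ (hHom hK (l ^ (2 ^ (2 * k + 1) - 1))) := by
    rw [map_pow, map_pow, map_pow, hHom_apply, hHom_apply, e]
  rw [h1, map_one, map_one, hHom_apply, ← h_one hF, h_eq_iff] at h2
  exact h2

theorem torus (hF : Fintype.card F = 2 ^ (2 * m + 1)) (hK : Fintype.card K = 2 ^ (2 * k + 1))
    {φ : Cfsg.Sz K k →* Cfsg.Sz F m} (N : Norm hF hK φ) {x : Fˣ} (hx : x ^ (2 ^ (2 * k + 1) - 1) = 1) :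
    ∃ l : Kˣ, φ (h hK l) = h hF x := by
  classical
  choose f hf using N.mapsh
  have hinj : Function.Injective f := by
    intro l l' e
    have h1 := hf l
    rw [e, ← hf l'] at h1
    exact (h_eq_iff hK _ _).1 (N.inj h1)
  have hpos : 0 < 2 ^ (2 * k + 1) - 1 := by
    have : 2 ^ 1 ≤ 2 ^ (2 * k + 1) := Nat.pow_le_pow_right (by norm_num) (by omega)
    omega
  have h1 : (Finset.univ.filter fun x : Fˣ => x ^ (2 ^ (2 * k + 1) - 1) = 1).card ≤ 2 ^ (2 * k + 1) - 1 :=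
    IsCyclic.card_pow_eq_one_le hpos
  have h2 : Finset.univ.image f ⊆ Finset.univ.filter fun x : Fˣ => x ^ (2 ^ (2 * k + 1) - 1) = 1 := by
    intro y hy
    obtain ⟨l, -, rfl⟩ := Finset.mem_image.1 hy
    exact Finset.mem_filter.2 ⟨Finset.mem_univ _, pow_sub_one hF hK (hf l)⟩
  have h3 : (Finset.univ.image f).card = 2 ^ (2 * k + 1) - 1 := by
    rw [Finset.card_image_of_injective _ hinj, Finset.card_univ, Fintype.card_units, hK]
  have h4 := Finset.eq_of_subset_of_card_le h2 (by rw [h3]; exact h1)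
  have h5 : x ∈ Finset.univ.image f := by
    rw [h4]
    exact Finset.mem_filter.2 ⟨Finset.mem_univ _, hx⟩
  obtain ⟨l, -, rfl⟩ := Finset.mem_image.1 h5
  exact ⟨l, hf l⟩

/-- the subfield of order `2^(2k+1)`, as the set of solutions of `x^(2^(2k+1)) = x` -/
theorem exists_subfield (hF : Fintype.card F = 2 ^ (2 * m + 1)) (k : ℕ) :
    ∃ L : Subfield F, ∀ x, x ∈ L ↔ x ^ 2 ^ (2 * k + 1) = x := by
  have := charP_two hF
  refine ⟨RingHom.eqLocusField (iterateFrobenius F 2 (2 * k + 1)) (RingHom.id F), fun x => ?_⟩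
  rw [← iterateFrobenius_def (R := F) 2 (2 * k + 1) x]
  exact Iff.rfl

omit [Fintype F] in
theorem unit_mem_iff {L : Subfield F} (hL : ∀ x, x ∈ L ↔ x ^ 2 ^ (2 * k + 1) = x) (x : Fˣ) :
    (x : F) ∈ L ↔ x ^ (2 ^ (2 * k + 1) - 1) = 1 := by
  have hpos : 2 ^ (2 * k + 1) = (2 ^ (2 * k + 1) - 1) + 1 := by
    have : 1 ≤ 2 ^ (2 * k + 1) := Nat.one_le_two_pow
    omega
  rw [hL]
  constructor
  · intro e
    apply Units.ext
    rw [hpos, pow_succ] at e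
    rw [Units.val_pow_eq_pow_val, Units.val_one]
    exact mul_right_cancel₀ x.ne_zero (by rw [e, one_mul])
  · intro e
    have e' := congrArg Units.val e
    rw [Units.val_pow_eq_pow_val, Units.val_one] at e'
    rw [hpos, pow_succ, e', one_mul]

theorem exists_root_mem (hF : Fintype.card F = 2 ^ (2 * m + 1)) {L : Subfield F}
    (hL : ∀ x, x ∈ L ↔ x ^ 2 ^ (2 * k + 1) = x) {x : F} (hx : x ^ (2 ^ (m + 1) + 1) ∈ L) : x ∈ L := by
  by_cases hx0 : x = 0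
  · rw [hx0]; exact zero_mem L
  have h1 := (unit_mem_iff hL (Units.mk0 (x ^ (2 ^ (m + 1) + 1)) (pow_ne_zero _ hx0))).1 hx
  have h2 := congrArg Units.val h1
  rw [Units.val_pow_eq_pow_val, Units.val_one, Units.val_mk0, ← pow_mul, mul_comm, pow_mul] at h2
  have h3 := eq_one_of_pow_sigma_add_one hF h2
  have h4 := (unit_mem_iff hL (Units.mk0 x hx0)).2 (Units.ext (by
    rw [Units.val_pow_eq_pow_val, Units.val_one, Units.val_mk0]; exact h3))
  exact h4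

section
variable {hF : Fintype.card F = 2 ^ (2 * m + 1)} {hK : Fintype.card K = 2 ^ (2 * k + 1)}
  {φ : Cfsg.Sz K k →* Cfsg.Sz F m}

theorem TT_mul {a b c d : F} (h1 : TT hF hK φ a b) (h2 : TT hF hK φ c d) :
    TT hF hK φ (a + c) (b + d + a ^ 2 ^ (m + 1) * c) := by
  obtain ⟨a', b', e⟩ := h1
  obtain ⟨c', d', e'⟩ := h2
  refine ⟨a' + c', b' + d' + a' ^ 2 ^ (k + 1) * c', ?_⟩
  rw [← u_mul, ← u_mul, map_mul, e, e']

theorem TT_h (N : Norm hF hK φ) {L : Subfield F} (hL : ∀ x, x ∈ L ↔ x ^ 2 ^ (2 * k + 1) = x) {a b : F}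
    (h1 : TT hF hK φ a b) {x : F} (hx : x ∈ L) (hx0 : x ≠ 0) : TT hF hK φ (x * a) (x ^ (2 ^ (m + 1) + 1) * b) := by
  obtain ⟨a', b', e⟩ := h1
  obtain ⟨l, hl⟩ := torus hF hK N ((unit_mem_iff hL (Units.mk0 x hx0)).1 hx)
  refine ⟨l * a', (l : K) ^ (2 ^ (k + 1) + 1) * b', ?_⟩
  have h2 : u hK (l * a') ((l : K) ^ (2 ^ (k + 1) + 1) * b') = h hK l * u hK a' b' * (h hK l)⁻¹ := by
    rw [h_mul_u]; group
  rw [h2, map_mul, map_mul, map_inv, hl, e, h_mul_u, Units.val_mk0]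
  group

theorem TT_struct (hk : 1 ≤ k) (N : Norm hF hK φ) {a b : F}
    (h1 : TT hF hK φ a b) (hab : ¬ (a = 0 ∧ b = 0)) : TT hF hK φ (b / zc m a b) (a / zc m a b) := by
  obtain ⟨a', b', e⟩ := h1
  have hz : zc m a b ≠ 0 := fun hz => hab ((zc_eq_zero_iff hF a b).1 hz)
  have h2 : (w hF * u hF a b * w hF) • inf F m = opt m (b / zc m a b) (a / zc m a b) := by
    rw [mul_smul, mul_smul, w_smul_inf, u_smul_zer, w_smul_opt _ _ _ hz]
  have h3 : φ (w hK * u hK a' b' * w hK) = w hF * u hF a b * w hF := by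
    rw [map_mul, map_mul, N.mapsw, e]
  rcases bruhat' hk hK (w hK * u hK a' b' * w hK) with ⟨c, d, l, h4⟩ | ⟨c, d, l, c', d', h4⟩
  · exfalso
    obtain ⟨p, q, hpq⟩ := N.mapsQ c d
    obtain ⟨x, hx⟩ := N.mapsh l
    rw [h4, map_mul, hpq, hx] at h3
    rw [← h3, mul_smul, h_smul_inf, u_smul_inf] at h2
    exact opt_ne_inf _ _ h2.symm
  · obtain ⟨p, q, hpq⟩ := N.mapsQ c d
    obtain ⟨p', q', hpq'⟩ := N.mapsQ c' d'
    obtain ⟨x, hx⟩ := N.mapsh l
    rw [h4, map_mul, map_mul, map_mul, hpq, hpq', hx, N.mapsw] at h3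
    rw [← h3, mul_smul, mul_smul, mul_smul, u_smul_inf, h_smul_inf, w_smul_inf, u_smul_zer, opt_eq_iff] at h2
    rw [← h2.1, ← h2.2]
    exact ⟨c, d, hpq⟩

theorem sq_eq_one_iff (hF : Fintype.card F = 2 ^ (2 * m + 1)) (a b : F) : u hF a b * u hF a b = 1 ↔ a = 0 := by
  have hchar := charP_two hF
  rw [u_mul, u_eq_one_iff, CharTwo.add_self_eq_zero, CharTwo.add_self_eq_zero, zero_add]
  constructor
  · rintro ⟨-, h1⟩
    rcases mul_eq_zero.1 h1 with h5 | h5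
    · exact (pow_eq_zero_iff (sigma_ne_zero m)).1 h5
    · exact h5
  · rintro rfl
    simp

/-- the involutions -/
theorem exists_beta (N : Norm hF hK φ) {L : Subfield F} (hL : ∀ x, x ∈ L ↔ x ^ 2 ^ (2 * k + 1) = x) :
    ∃ β : F, β ≠ 0 ∧ ∀ b, TT hF hK φ 0 b ↔ ∃ x ∈ L, b = x * β := by
  obtain ⟨a₁, β, h1⟩ := N.mapsQ 0 1
  have ha₁ : a₁ = 0 := by
    rw [← sq_eq_one_iff hF a₁ β, ← h1, ← map_mul, (sq_eq_one_iff hK 0 1).2 rfl, map_one]
  subst ha₁
  have hβ : β ≠ 0 := by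
    rintro rfl
    rw [u_zero_zero, ← map_one φ] at h1
    have h2 := N.inj h1
    rw [u_eq_one_iff] at h2
    exact one_ne_zero h2.2
  refine ⟨β, hβ, fun b => ⟨?_, ?_⟩⟩
  · rintro ⟨a', b', e⟩
    have ha' : a' = 0 := by
      rw [← sq_eq_one_iff hK a' b']
      apply N.inj
      rw [map_mul, e, map_one, sq_eq_one_iff]
    subst ha'
    by_cases hb' : b' = 0
    · subst hb'
      rw [u_zero_zero, map_one] at e
      have h3 := (u_eq_one_iff hF _ _).1 e.symm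
      exact ⟨0, zero_mem L, by rw [h3.2, zero_mul]⟩
    · obtain ⟨l, hl0, hl⟩ := exists_pow_sigma_add_one hK b' hb'
      obtain ⟨x, hx⟩ := N.mapsh (Units.mk0 l hl0)
      have h2 : u hK 0 b' = h hK (Units.mk0 l hl0) * u hK 0 1 * (h hK (Units.mk0 l hl0))⁻¹ := by
        rw [h_mul_u, mul_inv_cancel_right, mul_zero, mul_one, Units.val_mk0, hl]
      rw [h2, map_mul, map_mul, map_inv, hx, h1, h_mul_u, mul_inv_cancel_right, u_eq_iff] at e
      refine ⟨(x : F) ^ (2 ^ (m + 1) + 1), ?_, e.2.symm⟩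
      apply pow_mem
      exact (unit_mem_iff hL x).2 (pow_sub_one hF hK hx)
  · rintro ⟨x, hx, rfl⟩
    by_cases hx0 : x = 0
    · rw [hx0, zero_mul]
      exact ⟨0, 0, by rw [u_zero_zero, u_zero_zero, map_one]⟩
    · obtain ⟨y, hy0, hy⟩ := exists_pow_sigma_add_one hF x hx0
      have h3 : y ∈ L := exists_root_mem hF hL (by rw [hy]; exact hx)
      have h4 := TT_h N hL ⟨0, 1, h1⟩ h3 hy0
      rw [mul_zero, hy] at h4
      exact h4

/-- `(β/β^σ)^(σ+1) = β⁻¹` -/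
theorem div_sigma_pow (hF : Fintype.card F = 2 ^ (2 * m + 1)) {β : F} (hβ : β ≠ 0) :
    (β / β ^ 2 ^ (m + 1)) ^ (2 ^ (m + 1) + 1) = β⁻¹ := by
  have h0 : β ^ 2 ^ (m + 1) ≠ 0 := pow_ne_zero _ hβ
  rw [pow_succ, div_pow, sigma_sigma hF]
  field_simp

theorem mem_of_sq_mem (hF : Fintype.card F = 2 ^ (2 * m + 1)) {L : Subfield F}
    (hL : ∀ x, x ∈ L ↔ x ^ 2 ^ (2 * k + 1) = x) {x : F} (hx : x ^ 2 ∈ L) : x ∈ L := by
  have := charP_two hF
  rw [hL] at hx ⊢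
  apply frobenius_inj F 2
  show (x ^ 2 ^ (2 * k + 1)) ^ 2 = x ^ 2
  rw [← pow_mul, mul_comm, pow_mul, hx]

theorem TT_zero_iff (hk : 1 ≤ k) (N : Norm hF hK φ) {L : Subfield F} (hL : ∀ x, x ∈ L ↔ x ^ 2 ^ (2 * k + 1) = x)
    (b : F) : TT hF hK φ 0 b ↔ b ∈ L := by
  have := charP_two hF
  obtain ⟨β, hβ, hB⟩ := exists_beta N hL
  have h1 : TT hF hK φ 0 β := (hB β).2 ⟨1, one_mem L, by rw [one_mul]⟩
  have h2 := TT_struct hk N h1 (fun e => hβ e.2)
  have h3 : zc m 0 β = β ^ 2 ^ (m + 1) := by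
    rw [zc_def, zero_mul, zero_pow (sigma_add_two_ne_zero m), zero_add, zero_add]
  rw [h3, zero_div] at h2
  have h4 := TT_mul h2 h2
  rw [CharTwo.add_self_eq_zero, add_zero, zero_add, ← pow_succ, div_sigma_pow hF hβ] at h4
  obtain ⟨x, hx, h5⟩ := (hB _).1 h4
  have h6 : (β⁻¹) ^ 2 = x := by
    rw [pow_two]
    nth_rewrite 1 [h5]
    rw [mul_assoc, mul_inv_cancel₀ hβ, mul_one]
  have h7 : β ∈ L := by
    have h8 : β⁻¹ ∈ L := mem_of_sq_mem hF hL (by rw [h6]; exact hx)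
    have h9 := inv_mem h8
    rwa [inv_inv] at h9
  rw [hB]
  constructor
  · rintro ⟨x, hx, rfl⟩
    exact mul_mem hx h7
  · intro hb
    exact ⟨b / β, div_mem hb h7, by field_simp⟩

theorem TT_iff (hk : 1 ≤ k) (N : Norm hF hK φ) {L : Subfield F} (hL : ∀ x, x ∈ L ↔ x ^ 2 ^ (2 * k + 1) = x)
    (a b : F) : TT hF hK φ a b ↔ a ∈ L ∧ b ∈ L := by
  have := charP_two hF
  have h0 := TT_zero_iff hk N hL
  have key : ∀ a ∈ L, TT hF hK φ a 0 := by
    intro a ha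
    by_cases ha0 : a = 0
    · rw [ha0, h0]; exact zero_mem L
    · have h1 : (a ^ (2 ^ (m + 1) + 1))⁻¹ ∈ L := inv_mem (pow_mem ha _)
      have h1' : (a ^ (2 ^ (m + 1) + 1))⁻¹ ≠ 0 := inv_ne_zero (pow_ne_zero _ ha0)
      have h2 := TT_struct hk N ((h0 _).2 h1) (fun e => h1' e.2)
      have h3 : zc m 0 (a ^ (2 ^ (m + 1) + 1))⁻¹ = ((a ^ (2 ^ (m + 1) + 1))⁻¹) ^ 2 ^ (m + 1) := by
        rw [zc_def, zero_mul, zero_pow (sigma_add_two_ne_zero m), zero_add, zero_add]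
      have h4 : (a ^ (2 ^ (m + 1) + 1))⁻¹ / ((a ^ (2 ^ (m + 1) + 1))⁻¹) ^ 2 ^ (m + 1) = a := by
        have h5 : a ^ 2 ^ (m + 1) ≠ 0 := pow_ne_zero _ ha0
        rw [inv_pow, pow_succ a, mul_pow, sigma_sigma hF]
        field_simp
      rw [h3, zero_div, h4] at h2
      exact h2
  constructor
  · intro hab
    have h1 := TT_mul hab hab
    rw [CharTwo.add_self_eq_zero, CharTwo.add_self_eq_zero, zero_add, ← pow_succ, h0] at h1
    have ha : a ∈ L := exists_root_mem hF hL h1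
    have h2 := TT_mul (key a ha) hab
    rw [CharTwo.add_self_eq_zero, zero_add, h0, ← pow_succ] at h2
    refine ⟨ha, ?_⟩
    have h3 := add_mem h2 h1
    rwa [add_assoc, CharTwo.add_self_eq_zero, add_zero] at h3
  · rintro ⟨ha, hb⟩
    have h1 := TT_mul ((h0 b).2 hb) (key a ha)
    rw [zero_add, add_zero, zero_pow (sigma_ne_zero m), zero_mul, add_zero] at h1
    exact h1

/-- the elements over the subfield -/
def Std (hF : Fintype.card F = 2 ^ (2 * m + 1)) (L : Subfield F) (g : Cfsg.Sz F m) : Prop :=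
  (∃ a ∈ L, ∃ b ∈ L, ∃ x : Fˣ, (x : F) ∈ L ∧ g = u hF a b * h hF x) ∨
  (∃ a ∈ L, ∃ b ∈ L, ∃ c ∈ L, ∃ d ∈ L, ∃ x : Fˣ, (x : F) ∈ L ∧ g = u hF a b * w hF * h hF x * u hF c d)

theorem mem_range_iff (hk : 1 ≤ k) (N : Norm hF hK φ) {L : Subfield F} (hL : ∀ x, x ∈ L ↔ x ^ 2 ^ (2 * k + 1) = x)
    (g : Cfsg.Sz F m) : g ∈ φ.range ↔ Std hF L g := by
  have hT := TT_iff hk N hL
  constructor
  · rintro ⟨g₀, rfl⟩
    rcases bruhat' hk hK g₀ with ⟨c, d, l, rfl⟩ | ⟨c, d, l, c', d', rfl⟩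
    · left
      obtain ⟨p, q, hpq⟩ := N.mapsQ c d
      obtain ⟨x, hx⟩ := N.mapsh l
      obtain ⟨hp, hq⟩ := (hT p q).1 ⟨c, d, hpq⟩
      exact ⟨p, hp, q, hq, x, (unit_mem_iff hL x).2 (pow_sub_one hF hK hx), by rw [map_mul, hpq, hx]⟩
    · right
      obtain ⟨p, q, hpq⟩ := N.mapsQ c d
      obtain ⟨p', q', hpq'⟩ := N.mapsQ c' d'
      obtain ⟨x, hx⟩ := N.mapsh l
      obtain ⟨hp, hq⟩ := (hT p q).1 ⟨c, d, hpq⟩
      obtain ⟨hp', hq'⟩ := (hT p' q').1 ⟨c', d', hpq'⟩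
      exact ⟨p, hp, q, hq, p', hp', q', hq', x, (unit_mem_iff hL x).2 (pow_sub_one hF hK hx), by
        rw [map_mul, map_mul, map_mul, hpq, hx, hpq', N.mapsw]⟩
  · rintro (⟨a, ha, b, hb, x, hx, rfl⟩ | ⟨a, ha, b, hb, c, hc, d, hd, x, hx, rfl⟩)
    · obtain ⟨a', b', e⟩ := (hT a b).2 ⟨ha, hb⟩
      obtain ⟨l, hl⟩ := torus hF hK N ((unit_mem_iff hL x).1 hx)
      exact ⟨u hK a' b' * h hK l, by rw [map_mul, e, hl]⟩
    · obtain ⟨a', b', e⟩ := (hT a b).2 ⟨ha, hb⟩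
      obtain ⟨c', d', e'⟩ := (hT c d).2 ⟨hc, hd⟩
      obtain ⟨l, hl⟩ := torus hF hK N ((unit_mem_iff hL x).1 hx)
      exact ⟨u hK a' b' * w hK * h hK l * u hK c' d', by rw [map_mul, map_mul, map_mul, e, hl, e', N.mapsw]⟩

end

/-- every subgroup isomorphic to `Sz(s)` is conjugate to the standard one -/
theorem exists_conj_std (hm : 1 ≤ m) (hk : 1 ≤ k) (hF : Fintype.card F = 2 ^ (2 * m + 1))
    (hK : Fintype.card K = 2 ^ (2 * k + 1)) {L : Subfield F} (hL : ∀ x, x ∈ L ↔ x ^ 2 ^ (2 * k + 1) = x)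
    (S : Subgroup (Cfsg.Sz F m)) (e : Cfsg.Sz K k ≃* S) :
    ∃ y : Cfsg.Sz F m, ∀ g, g ∈ S.map (MulAut.conj y).toMonoidHom ↔ Std hF L g := by
  have hφ : Function.Injective (S.subtype.comp e.toMonoidHom) := Subtype.val_injective.comp e.injective
  obtain ⟨y, h1, h2, h3⟩ := normalise hm hk hF hK hφ
  refine ⟨y, fun g => ?_⟩
  rw [← mem_range_iff hk ⟨cj_injective hφ y, h1, h2, h3⟩ hL, range_cj]
  have hr : (S.subtype.comp e.toMonoidHom).range = S := by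
    rw [MonoidHom.range_comp, MonoidHom.range_eq_top.2 e.surjective, ← MonoidHom.range_eq_map, Subgroup.range_subtype]
  rw [hr]

/-- two subgroups isomorphic to `Sz(s)` are conjugate -/
theorem conj (hm : 1 ≤ m) (hk : 1 ≤ k) (hF : Fintype.card F = 2 ^ (2 * m + 1))
    (hK : Fintype.card K = 2 ^ (2 * k + 1)) (S₁ S₂ : Subgroup (Cfsg.Sz F m)) (e₁ : Nonempty (S₁ ≃* Cfsg.Sz K k))
    (e₂ : Nonempty (S₂ ≃* Cfsg.Sz K k)) : ∃ g : Cfsg.Sz F m, S₂ = S₁.map (MulAut.conj g).toMonoidHom := by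
  obtain ⟨e₁⟩ := e₁
  obtain ⟨e₂⟩ := e₂
  obtain ⟨L, hL⟩ := exists_subfield hF k
  obtain ⟨y₁, h₁⟩ := exists_conj_std hm hk hF hK hL S₁ e₁.symm
  obtain ⟨y₂, h₂⟩ := exists_conj_std hm hk hF hK hL S₂ e₂.symm
  have h3 : S₁.map (MulAut.conj y₁).toMonoidHom = S₂.map (MulAut.conj y₂).toMonoidHom := by
    ext g
    rw [h₁, h₂]
  refine ⟨y₂⁻¹ * y₁, ?_⟩
  have h4 : (MulAut.conj (y₂⁻¹ * y₁)).toMonoidHom = (MulAut.conj y₂⁻¹).toMonoidHom.comp (MulAut.conj y₁).toMonoidHom := by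
    rw [map_mul]; rfl
  rw [h4, ← Subgroup.map_map, h3, Subgroup.map_map]
  have h5 : (MulAut.conj y₂⁻¹).toMonoidHom.comp (MulAut.conj y₂).toMonoidHom = MonoidHom.id _ := by
    ext x
    show ((y₂⁻¹ * (y₂ * x * y₂⁻¹) * y₂⁻¹⁻¹ : Cfsg.Sz F m) : SL(4, F)) _ _ = _
    have : y₂⁻¹ * (y₂ * x * y₂⁻¹) * y₂⁻¹⁻¹ = x := by group
    rw [this]
    rfl
  rw [h5, Subgroup.map_id]

end Cfsg.Agent.H98.SzSubConj
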