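import Cfsg.Agent.H98.SzInv
import Cfsg.Agent.LieExceptional.SuzukiForm

/-!
# Products of two conjugates in the Suzuki groups

Every nonidentity element of `Sz(q)` is a product of two conjugates of `x`, for every `x` of order greater than
two.
-/

set_option autoImplicit false

namespace Cfsg.Agent.H98.SzCover

open scoped MatrixGroups Matrix Pointwise
open Matrix MulAction
open Cfsg.Agent.LieExceptional
open Cfsg.Agent.LieExceptional.SuzukiBasic Cfsg.Agent.LieExceptional.SuzukiSylow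
open Cfsg.Agent.LieExceptional.SuzukiCN
open Cfsg.Agent.H98.SzBasic Cfsg.Agent.H98.SzPartition Cfsg.Agent.H98.SzSubConj Cfsg.Agent.H98.SzInv

variable {F : Type*} [Field F] [Fintype F] {m : ℕ}

/-! ### The subgroup `N = {f + f^σ}` -/

/-- the additive map `f ↦ f + f^σ` -/
def psi (hF : Fintype.card F = 2 ^ (2 * m + 1)) : F →+ F where
  toFun f := f + f ^ 2 ^ (m + 1)
  map_zero' := by rw [zero_pow (sigma_ne_zero m), add_zero]
  map_add' x y := by rw [sigma_add hF]; ring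

theorem psi_apply (hF : Fintype.card F = 2 ^ (2 * m + 1)) (f : F) : psi hF f = f + f ^ 2 ^ (m + 1) := rfl

/-- the subgroup `{f + f^σ}` -/
def N (hF : Fintype.card F = 2 ^ (2 * m + 1)) : AddSubgroup F := (psi hF).range

theorem mem_N_iff (hF : Fintype.card F = 2 ^ (2 * m + 1)) (x : F) : x ∈ N hF ↔ ∃ f, f + f ^ 2 ^ (m + 1) = x :=
  Iff.rfl

theorem one_notMem (hF : Fintype.card F = 2 ^ (2 * m + 1)) : (1 : F) ∉ N hF := by
  rintro ⟨f, hf⟩
  apply SzReal.sigma_add_ne_one hF f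
  rw [add_comm]
  exact hf

/-- the fixed points of `σ` are `0` and `1` -/
theorem sigma_fixed (hF : Fintype.card F = 2 ^ (2 * m + 1)) {t : F} (ht : t ^ 2 ^ (m + 1) = t) : t = 0 ∨ t = 1 := by
  have h1 := sigma_sigma hF t
  rw [ht, ht] at h1
  have h2 : t * (t - 1) = 0 := by linear_combination -h1
  rcases mul_eq_zero.1 h2 with h3 | h3
  · exact Or.inl h3
  · exact Or.inr (sub_eq_zero.1 h3)

theorem mem_ker_iff (hF : Fintype.card F = 2 ^ (2 * m + 1)) (t : F) : t ∈ (psi hF).ker ↔ t = 0 ∨ t = 1 := by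
  have := charP_two hF
  rw [AddMonoidHom.mem_ker, psi_apply]
  constructor
  · intro e
    exact sigma_fixed hF (CharTwo.add_eq_zero.1 e).symm
  · rintro (rfl | rfl)
    · rw [zero_pow (sigma_ne_zero m), add_zero]
    · rw [one_pow]; exact CharTwo.add_self_eq_zero 1

theorem index_N (hF : Fintype.card F = 2 ^ (2 * m + 1)) : (N hF).index = 2 := by
  have h1 : Nat.card (psi hF).ker = 2 := by
    have h2 : ((psi hF).ker : Set F) = {0, 1} := by
      ext t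
      rw [SetLike.mem_coe, mem_ker_iff]
      rfl
    have h3 : Nat.card (psi hF).ker = Set.ncard ((psi hF).ker : Set F) := rfl
    rw [h3, h2, Set.ncard_pair zero_ne_one]
  have h2 : (psi hF).ker.index = Nat.card (N hF) := AddSubgroup.index_ker _
  have h3 := (psi hF).ker.card_mul_index
  have h4 := (N hF).card_mul_index
  rw [h1, h2, ← h4, mul_comm] at h3
  exact (Nat.eq_of_mul_eq_mul_left Nat.card_pos h3).symm

/-- every element is in `N` or `N + 1` -/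
theorem mem_or (hF : Fintype.card F = 2 ^ (2 * m + 1)) (x : F) : x ∈ N hF ∨ x + 1 ∈ N hF := by
  by_contra hcon
  push Not at hcon
  have h1 := (AddSubgroup.add_mem_iff_of_index_two (index_N hF) (a := x) (b := 1))
  apply hcon.2
  rw [h1]
  exact ⟨fun h => absurd h hcon.1, fun h => absurd h (one_notMem hF)⟩

theorem add_mem_iff (hF : Fintype.card F = 2 ^ (2 * m + 1)) (x y : F) : x + y ∈ N hF ↔ (x ∈ N hF ↔ y ∈ N hF) :=
  AddSubgroup.add_mem_iff_of_index_two (index_N hF)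

/-- `x ≡ x^σ` modulo `N` -/
theorem sigma_mem_iff (hF : Fintype.card F = 2 ^ (2 * m + 1)) (x : F) : x ^ 2 ^ (m + 1) ∈ N hF ↔ x ∈ N hF := by
  have h1 : x + x ^ 2 ^ (m + 1) ∈ N hF := ⟨x, rfl⟩
  rw [add_mem_iff] at h1
  exact h1.symm

theorem sq_mem_iff (hF : Fintype.card F = 2 ^ (2 * m + 1)) (x : F) : x ^ 2 ∈ N hF ↔ x ∈ N hF := by
  rw [← sigma_sigma hF x, sigma_mem_iff, sigma_mem_iff]

/-- choice of `f` with given `f + f^σ` and given class modulo `N` -/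
theorem exists_f (hF : Fintype.card F = 2 ^ (2 * m + 1)) {n : F} (hn : n ∈ N hF) (b₀ : F) :
    ∃ f : F, f + f ^ 2 ^ (m + 1) = n ∧ b₀ + f ∈ N hF := by
  have hchar := charP_two hF
  obtain ⟨f, hf⟩ := hn
  rcases mem_or hF (b₀ + f) with h1 | h1
  · exact ⟨f, hf, h1⟩
  · refine ⟨f + 1, ?_, by rw [← add_assoc]; exact h1⟩
    rw [sigma_add hF, one_pow, ← hf, psi_apply]
    have := CharTwo.add_self_eq_zero (1 : F)
    linear_combination this

omit [Fintype F] in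
theorem pow_succ_half (x : F) : x ^ 2 ^ (m + 1) = (x ^ 2 ^ m) ^ 2 := by
  rw [← pow_mul, ← pow_succ]

/-- the quadratic form argument -/
theorem exists_kappa (hm : 1 ≤ m) (hF : Fintype.card F = 2 ^ (2 * m + 1)) {τ : F} (hτ : τ ≠ 0) :
    ∃ κ : F, κ ≠ 0 ∧ κ + τ * κ ^ (2 ^ m + 1) ∉ N hF := by
  have hchar := charP_two hF
  by_contra hcon
  push Not at hcon
  have hQ : ∀ κ : F, κ + τ * κ ^ (2 ^ m + 1) ∈ N hF := by
    intro κ
    by_cases h0 : κ = 0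
    · rw [h0, zero_pow (by positivity), mul_zero, add_zero]
      exact zero_mem _
    · exact hcon κ h0
  have hρ : ∀ x y : F, (x + y) ^ 2 ^ m = x ^ 2 ^ m + y ^ 2 ^ m := fun x y => add_pow_char_pow x y 2 m
  -- polarisation
  have hB : ∀ x y : F, τ * (x ^ 2 ^ m * y + x * y ^ 2 ^ m) ∈ N hF := by
    intro x y
    have h1 := add_mem (hQ (x + y)) (add_mem (hQ x) (hQ y))
    have h2 : x + y + τ * (x + y) ^ (2 ^ m + 1) + (x + τ * x ^ (2 ^ m + 1) + (y + τ * y ^ (2 ^ m + 1))) =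
        τ * (x ^ 2 ^ m * y + x * y ^ 2 ^ m) := by
      rw [pow_succ, hρ, pow_succ, pow_succ]
      have h3 : (2 : F) = 0 := CharTwo.two_eq_zero
      linear_combination (x + y + τ * (x ^ 2 ^ m * x) + τ * (y ^ 2 ^ m * y)) * h3
    rwa [h2] at h1
  have hC : ∀ x y : F, (τ * x ^ 2 ^ m + τ ^ 2 ^ (m + 1) * x ^ 2 ^ (m + 1)) * y ∈ N hF := by
    intro x y
    have h1 := hB x y
    have h2 : τ * (x ^ 2 ^ m * y + x * y ^ 2 ^ m) = τ * x ^ 2 ^ m * y + τ * x * y ^ 2 ^ m := by ring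
    rw [h2, add_mem_iff, ← sigma_mem_iff hF (τ * x * y ^ 2 ^ m)] at h1
    have h3 : (τ * x * y ^ 2 ^ m) ^ 2 ^ (m + 1) = τ ^ 2 ^ (m + 1) * x ^ 2 ^ (m + 1) * y := by
      rw [mul_pow, mul_pow, pow_half hF]
    rw [h3, ← add_mem_iff] at h1
    have h4 : (τ * x ^ 2 ^ m + τ ^ 2 ^ (m + 1) * x ^ 2 ^ (m + 1)) * y =
      τ * x ^ 2 ^ m * y + τ ^ 2 ^ (m + 1) * x ^ 2 ^ (m + 1) * y := by ring
    rw [h4]
    exact h1
  have hD : ∀ x : F, τ * x ^ 2 ^ m + τ ^ 2 ^ (m + 1) * x ^ 2 ^ (m + 1) = 0 := by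
    intro x
    by_contra hne
    apply one_notMem hF
    have h1 := hC x (τ * x ^ 2 ^ m + τ ^ 2 ^ (m + 1) * x ^ 2 ^ (m + 1))⁻¹
    rwa [mul_inv_cancel₀ hne] at h1
  have hE := hD 1
  rw [one_pow, one_pow, mul_one, mul_one] at hE
  have hτ1 : τ ^ 2 ^ (m + 1) = τ := (CharTwo.add_eq_zero.1 hE).symm
  have hG : ∀ x : F, x ^ 2 ^ (m + 1) = x ^ 2 ^ m := by
    intro x
    have h1 := hD x
    rw [hτ1] at h1
    exact (mul_left_cancel₀ hτ (CharTwo.add_eq_zero.1 h1)).symm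
  obtain ⟨a, ha⟩ := exists_sigma_ne hm hF
  apply ha
  have h2 : a ^ 2 = a := by rw [← sigma_sigma hF a, hG (a ^ 2 ^ (m + 1)), hG a, ← hG (a ^ 2 ^ m), pow_half hF]
  have h3 : a * (a - 1) = 0 := by linear_combination h2
  rcases mul_eq_zero.1 h3 with h4 | h4
  · rw [h4, zero_pow (sigma_ne_zero m)]
  · rw [sub_eq_zero.1 h4, one_pow]

/-- no multiplication by `μ ≠ 0, 1` maps `N` into itself -/
theorem exists_mul_notMem (hF : Fintype.card F = 2 ^ (2 * m + 1)) {μ : F} (h0 : μ ≠ 0) (h1 : μ ≠ 1) :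
    ∃ n ∈ N hF, μ * n ∉ N hF := by
  have hchar := charP_two hF
  by_contra hcon
  push Not at hcon
  -- every `ν ≠ 0` with `ν N ⊆ N` is in `1 + N`
  have key : ∀ ν : F, ν ≠ 0 → (∀ n ∈ N hF, ν * n ∈ N hF) → ν ∉ N hF := by
    intro ν hν h h2
    -- then `ν F ⊆ N`
    apply one_notMem hF
    have h3 : ∀ x : F, ν * x ∈ N hF := by
      intro x
      rcases mem_or hF x with h4 | h4
      · exact h x h4
      · have h5 := add_mem (h _ h4) h2
        have h6 : ν * (x + 1) + ν = ν * x := by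
          have := CharTwo.add_self_eq_zero ν
          linear_combination this
        rwa [h6] at h5
    have h4 := h3 ν⁻¹
    rwa [mul_inv_cancel₀ hν] at h4
  have h2 := key μ h0 hcon
  have h3 := key (μ + 1) (fun h => h1 (CharTwo.add_eq_zero.1 h)) (fun n hn => by
    rw [add_mul, one_mul]; exact add_mem (hcon n hn) hn)
  rcases mem_or hF μ with h4 | h4
  · exact h2 h4
  · exact h3 h4

/-! ### Conjugacy in the Sylow 2-subgroup -/

/-- `u a b` is conjugate to `u 1 b'` for `a ≠ 0` -/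
theorem conj_u_one (hF : Fintype.card F = 2 ^ (2 * m + 1)) {a : F} (ha : a ≠ 0) (b : F) :
    ∃ (y : Cfsg.Sz F m) (b' : F), y * u hF a b * y⁻¹ = u hF 1 b' := by
  refine ⟨(h hF (Units.mk0 a ha))⁻¹, (a ^ (2 ^ (m + 1) + 1))⁻¹ * b, ?_⟩
  rw [inv_inv, mul_assoc, inv_mul_eq_iff_eq_mul, h_mul_u, Units.val_mk0, mul_one, ← mul_assoc,
    mul_inv_cancel₀ (pow_ne_zero _ ha), one_mul]

/-- the conjugates of `u 1 b` in `Q` -/
theorem conj_u_u (hF : Fintype.card F = 2 ^ (2 * m + 1)) {a : F} (ha : a ≠ 0) {b b' : F} (hb : b + b' ∈ N hF) :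
    ∃ y : Cfsg.Sz F m, y * u hF 1 b * y⁻¹ = u hF a (a ^ (2 ^ (m + 1) + 1) * b') := by
  have hchar := charP_two hF
  obtain ⟨c, hc⟩ := hb
  rw [psi_apply] at hc
  refine ⟨h hF (Units.mk0 a ha) * u hF c 0, ?_⟩
  rw [mul_inv_eq_iff_eq_mul, mul_assoc, u_mul, h_mul_u, h_mul_u, ← mul_assoc, u_mul, Units.val_mk0]
  congr 2
  · ring
  · have h2 : (2 : F) = 0 := CharTwo.two_eq_zero
    rw [pow_succ a]
    linear_combination (a ^ 2 ^ (m + 1) * a) * hc + (a ^ 2 ^ (m + 1) * a * b - a ^ 2 ^ (m + 1) * a * c) * h2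

/-! ### The products -/

/-- `g` is a product of two conjugates of `x` -/
def Prod2 {G : Type*} [Group G] (x g : G) : Prop := ∃ u v : G, g = (u * x * u⁻¹) * (v * x * v⁻¹)

theorem Prod2.conj {G : Type*} [Group G] {x g : G} (h : Prod2 x g) (y : G) : Prod2 x (y * g * y⁻¹) := by
  obtain ⟨u, v, rfl⟩ := h
  exact ⟨y * u, y * v, by group⟩

theorem Prod2.of_conj {G : Type*} [Group G] {x g g' : G} (h : Prod2 x g') {y : G} (e : y * g * y⁻¹ = g') :
    Prod2 x g := by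
  have h1 := h.conj y⁻¹
  rw [← e] at h1
  have h2 : y⁻¹ * (y * g * y⁻¹) * y⁻¹⁻¹ = g := by group
  rwa [h2] at h1

theorem Prod2.mk {G : Type*} [Group G] {x a b : G} (ha : ∃ y, y * x * y⁻¹ = a) (hb : ∃ y, y * x * y⁻¹ = b) :
    Prod2 x (a * b) := by
  obtain ⟨u, rfl⟩ := ha
  obtain ⟨v, rfl⟩ := hb
  exact ⟨u, v, rfl⟩

theorem tr_sq (hF : Fintype.card F = 2 ^ (2 * m + 1)) (g : Cfsg.Sz F m) : tr (g * g) = tr g ^ 2 := by
  have hchar := charP_two hF
  have h2 : (2 : F) = 0 := CharTwo.two_eq_zero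
  show Matrix.trace (((g : SL(4, F)) : Matrix (Fin 4) (Fin 4) F) * ((g : SL(4, F)) : Matrix (Fin 4) (Fin 4) F)) =
    (Matrix.trace ((g : SL(4, F)) : Matrix (Fin 4) (Fin 4) F)) ^ 2
  generalize ((g : SL(4, F)) : Matrix (Fin 4) (Fin 4) F) = M
  simp only [Matrix.trace, Matrix.diag_apply, Fin.sum_univ_four, Matrix.mul_apply]
  linear_combination (M 0 1 * M 1 0 + M 0 2 * M 2 0 + M 0 3 * M 3 0 + M 1 2 * M 2 1 + M 1 3 * M 3 1 +
    M 2 3 * M 3 2 - M 0 0 * M 1 1 - M 0 0 * M 2 2 - M 0 0 * M 3 3 - M 1 1 * M 2 2 - M 1 1 * M 3 3 -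
    M 2 2 * M 3 3) * h2

/-- elements of odd order are real -/
theorem conj_inv (hm : 1 ≤ m) (hF : Fintype.card F = 2 ^ (2 * m + 1)) {x : Cfsg.Sz F m} (hx : tr x ≠ 0) :
    ∃ y, y * x * y⁻¹ = x⁻¹ := by
  obtain ⟨t, -, -, ht⟩ := exists_inverts hm hF (notMem_of_tr hm hF hx)
  exact ⟨t, ht⟩

theorem Prod2.quot (hm : 1 ≤ m) (hF : Fintype.card F = 2 ^ (2 * m + 1)) {x a b : Cfsg.Sz F m} (hx : tr x ≠ 0)
    (ha : tr a = tr x) (hb : tr b = tr x) : Prod2 x (a⁻¹ * b) := by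
  obtain ⟨y, hy⟩ := conj_of_tr hm hF hx hb.symm
  obtain ⟨z, hz⟩ := conj_of_tr hm hF hx ha.symm
  obtain ⟨t, ht⟩ := conj_inv hm hF hx
  apply Prod2.mk _ ⟨y, hy⟩
  refine ⟨z * t, ?_⟩
  calc z * t * x * (z * t)⁻¹ = z * (t * x * t⁻¹) * z⁻¹ := by group
    _ = (z * x * z⁻¹)⁻¹ := by rw [ht]; group
    _ = a⁻¹ := by rw [hz]

/-- `x` and `g` of odd order -/
theorem odd_odd (hm : 1 ≤ m) (hF : Fintype.card F = 2 ^ (2 * m + 1)) {x g : Cfsg.Sz F m}
    (hx : tr x ≠ 0) (hg : tr g ≠ 0) : Prod2 x g := by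
  have hchar := charP_two hF
  obtain ⟨y, b, hb, e⟩ := exists_conj_w_u hm hF (notMem_of_tr hm hF hx)
  -- a square root of the trace of `g`
  obtain ⟨c, hc⟩ : ∃ c : F, (c ^ 2 ^ (m + 1)) ^ 2 = tr g := by
    have h1 : Function.Surjective (fun c : F => (c ^ 2 ^ (m + 1)) ^ 2) := by
      apply Finite.surjective_of_injective
      intro c d h
      exact sigma_injective hF (frobenius_inj F 2 h)
    exact h1 _
  have key : Prod2 x ((w hF * u hF 0 b) * (u hF 0 (b + c) * (w hF * u hF 0 b) * (u hF 0 (b + c))⁻¹)) := by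
    apply Prod2.mk ⟨y, e⟩
    refine ⟨u hF 0 (b + c) * y, ?_⟩
    rw [← e]
    group
  have h2 : (w hF * u hF 0 b) * (u hF 0 (b + c) * (w hF * u hF 0 b) * (u hF 0 (b + c))⁻¹) =
      w hF * u hF 0 c * (w hF * u hF 0 c) := by
    have h3 : u hF 0 b * u hF 0 (b + c) = u hF 0 c := by
      rw [u_mul, zero_pow (sigma_ne_zero m), zero_mul, add_zero, add_zero, ← add_assoc,
        CharTwo.add_self_eq_zero, zero_add]
    have h4 : (u hF 0 (b + c))⁻¹ = u hF 0 (b + c) := by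
      rw [u_inv]; simp
    rw [h4]
    calc (w hF * u hF 0 b) * (u hF 0 (b + c) * (w hF * u hF 0 b) * u hF 0 (b + c)) =
        w hF * (u hF 0 b * u hF 0 (b + c)) * (w hF * (u hF 0 b * u hF 0 (b + c))) := by group
      _ = _ := by rw [h3]
  rw [h2] at key
  have h5 : tr (w hF * u hF 0 c * (w hF * u hF 0 c)) = tr g := by
    rw [tr_sq hF, tr_w_u_zero, hc]
  obtain ⟨z, hz⟩ := conj_of_tr hm hF hg h5.symm
  exact key.of_conj hz

omit [Fintype F] in
theorem zc_one (f : F) : zc m 1 f = f + 1 + f ^ 2 ^ (m + 1) := by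
  rw [zc_def, one_pow, one_mul]

/-- `x` of odd order, `g` an involution -/
theorem odd_inv (hm : 1 ≤ m) (hF : Fintype.card F = 2 ^ (2 * m + 1)) {x : Cfsg.Sz F m}
    (hx : tr x ≠ 0) : Prod2 x (u hF 0 1) := by
  have hchar := charP_two hF
  have h2 : (2 : F) = 0 := CharTwo.two_eq_zero
  obtain ⟨κ, hκ, h1⟩ := exists_kappa hm hF hx
  -- `f + f^σ + 1 = κ + τ κ^(2^m+1)`
  obtain ⟨f, hf⟩ : ∃ f : F, f + f ^ 2 ^ (m + 1) = κ + tr x * κ ^ (2 ^ m + 1) + 1 :=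
    (mem_N_iff hF _).1 ((mem_or hF _).resolve_left h1)
  let k : Fˣ := (Units.mk0 κ hκ)⁻¹
  have hk : (k : F) = κ⁻¹ := rfl
  have ht : ∀ f' : F, f' + f' ^ 2 ^ (m + 1) = κ + tr x * κ ^ (2 ^ m + 1) + 1 →
      tr (w hF * h hF k * u hF 1 f') = tr x := by
    intro f' hf'
    rw [tr_w_h_u, zc_one, one_pow, mul_one, hk]
    have h3 : f' + 1 + f' ^ 2 ^ (m + 1) = κ + tr x * κ ^ (2 ^ m + 1) := by
      linear_combination hf' + h2
    rw [h3, inv_pow, inv_pow]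
    have h4 : κ ^ 2 ^ m ≠ 0 := pow_ne_zero _ hκ
    rw [pow_succ]
    field_simp
    linear_combination h2
  have hf1 : (f + 1) + (f + 1) ^ 2 ^ (m + 1) = κ + tr x * κ ^ (2 ^ m + 1) + 1 := by
    rw [← hf, sigma_add hF, one_pow]
    linear_combination h2
  have h3 := Prod2.quot hm hF hx (ht f hf) (ht (f + 1) hf1)
  have h4 : (w hF * h hF k * u hF 1 f)⁻¹ * (w hF * h hF k * u hF 1 (f + 1)) = u hF 0 1 := by
    have h5 : u hF 1 (f + 1) = u hF 1 f * u hF 0 1 := by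
      rw [u_mul]; simp
    rw [h5]; group
  rwa [h4] at h3

/-- `x` of odd order, `g` of order four -/
theorem odd_four (hm : 1 ≤ m) (hF : Fintype.card F = 2 ^ (2 * m + 1)) {x : Cfsg.Sz F m}
    (hx : tr x ≠ 0) (b₀ : F) : Prod2 x (u hF 1 b₀) := by
  have hchar := charP_two hF
  have h2 : (2 : F) = 0 := CharTwo.two_eq_zero
  obtain ⟨κ, hκ, h1⟩ := exists_kappa hm hF hx
  obtain ⟨f, hf⟩ : ∃ f : F, f ^ 2 ^ (m + 1) = tr x * κ ^ (2 ^ m + 1) :=
    (Finite.surjective_of_injective (sigma_injective hF)) _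
  have h3 : f + κ + 1 ∈ N hF := by
    apply (mem_or hF (f + κ)).resolve_left
    intro h4
    apply h1
    rw [add_mem_iff, ← sigma_mem_iff hF f, ← add_mem_iff, hf] at h4
    rwa [add_comm]
  obtain ⟨b', hb', hbb⟩ := exists_f hF h3 b₀
  let k : Fˣ := (Units.mk0 κ hκ)⁻¹
  have hk : (k : F) = κ⁻¹ := rfl
  have hκ' : κ ^ 2 ^ m ≠ 0 := pow_ne_zero _ hκ
  have t1 : tr (w hF * h hF k * u hF 0 f) = tr x := by
    rw [tr_w_h_u, zc_zero, zero_pow (sigma_ne_zero m), mul_zero, add_zero, hf, hk, inv_pow]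
    have h4 : κ ^ (2 ^ m + 1) ≠ 0 := pow_ne_zero _ hκ
    field_simp
  have t2 : tr (w hF * h hF k * u hF 1 (f + b')) = tr x := by
    rw [tr_w_h_u, zc_one, one_pow, mul_one, hk, sigma_add hF]
    have h4 : f + b' + 1 + (f ^ 2 ^ (m + 1) + b' ^ 2 ^ (m + 1)) = κ + tr x * κ ^ (2 ^ m + 1) := by
      linear_combination hb' + hf + (f + 1) * h2
    rw [h4, inv_pow, inv_pow, pow_succ]
    field_simp
    linear_combination h2
  have h3 := Prod2.quot hm hF hx t1 t2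
  have h4 : (w hF * h hF k * u hF 0 f)⁻¹ * (w hF * h hF k * u hF 1 (f + b')) = u hF 1 b' := by
    have h5 : u hF 1 (f + b') = u hF 0 f * u hF 1 b' := by
      rw [u_mul, zero_pow (sigma_ne_zero m)]; simp
    rw [h5]; group
  rw [h4] at h3
  obtain ⟨y, hy⟩ := conj_u_u hF (one_ne_zero : (1 : F) ≠ 0) hbb
  rw [one_pow, one_mul] at hy
  exact h3.of_conj hy

/-- `x` of order four, `g` of odd order -/
theorem four_odd (hm : 1 ≤ m) (hF : Fintype.card F = 2 ^ (2 * m + 1)) {g : Cfsg.Sz F m}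
    (hg : tr g ≠ 0) (b₀ : F) : Prod2 (u hF 1 b₀) g := by
  have hchar := charP_two hF
  have h2 : (2 : F) = 0 := CharTwo.two_eq_zero
  -- fourth root of the trace
  obtain ⟨ε, hε⟩ : ∃ ε : F, (ε ^ 2) ^ 2 = tr g := by
    have h1 : Function.Surjective (fun c : F => (c ^ 2) ^ 2) := by
      apply Finite.surjective_of_injective
      intro c d h
      exact frobenius_inj F 2 (frobenius_inj F 2 h)
    exact h1 _
  have hε0 : ε ≠ 0 := by
    rintro rfl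
    apply hg
    rw [← hε]; simp
  obtain ⟨κ, hκ, h1⟩ := exists_kappa hm hF hε0
  have h3 : (κ + ε * κ ^ (2 ^ m + 1)) ^ 2 + 1 ∈ N hF := by
    apply (mem_or hF _).resolve_left
    rwa [sq_mem_iff]
  obtain ⟨b₁, hb₁, hbb⟩ := exists_f hF h3 b₀
  have ha : κ⁻¹ ≠ 0 := inv_ne_zero hκ
  obtain ⟨y, hy⟩ := conj_u_u hF ha hbb
  set a := κ⁻¹ with hadef
  have ht : tr (w hF * u hF a (a ^ (2 ^ (m + 1) + 1) * b₁)) = ε ^ 2 := by
    rw [tr_w_u, zc_def]
    have h4 : (a ^ (2 ^ (m + 1) + 1) * b₁) ^ 2 ^ (m + 1) = a ^ (2 ^ (m + 1) + 2) * b₁ ^ 2 ^ (m + 1) := by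
      rw [mul_pow, pow_succ a, mul_pow, sigma_sigma hF, pow_add a (2 ^ (m + 1))]
      ring
    rw [h4]
    have h5 : a * (a ^ (2 ^ (m + 1) + 1) * b₁) + a ^ (2 ^ (m + 1) + 2) + a ^ (2 ^ (m + 1) + 2) * b₁ ^ 2 ^ (m + 1) +
        a ^ 2 ^ (m + 1) = a ^ (2 ^ (m + 1) + 2) * (b₁ + b₁ ^ 2 ^ (m + 1) + 1) + a ^ 2 ^ (m + 1) := by ring
    rw [h5, hb₁, hadef, inv_pow, inv_pow, pow_succ κ (2 ^ m), pow_add κ (2 ^ (m + 1)), pow_succ_half]
    have hκ' : κ ^ 2 ^ m ≠ 0 := pow_ne_zero _ hκ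
    field_simp
    linear_combination (κ ^ 2 + κ ^ 2 * κ ^ 2 ^ m * ε + 1) * h2
  have key : Prod2 (u hF 1 b₀) ((u hF a (a ^ (2 ^ (m + 1) + 1) * b₁)) * (w hF * u hF a (a ^ (2 ^ (m + 1) + 1) * b₁) * (w hF)⁻¹)) := by
    apply Prod2.mk ⟨y, hy⟩
    refine ⟨w hF * y, ?_⟩
    rw [← hy]
    group
  rw [w_inv] at key
  have h6 : tr ((u hF a (a ^ (2 ^ (m + 1) + 1) * b₁)) * (w hF * u hF a (a ^ (2 ^ (m + 1) + 1) * b₁) * w hF)) = tr g := by
    rw [← hε, ← ht, ← tr_sq hF, ← mul_assoc, tr_mul_comm, ← mul_assoc, ← mul_assoc]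
  obtain ⟨z, hz⟩ := conj_of_tr hm hF hg h6.symm
  exact key.of_conj hz

/-- `x` and `g` of order four -/
theorem four_four (hm : 1 ≤ m) (hF : Fintype.card F = 2 ^ (2 * m + 1)) (b g₀ : F) :
    Prod2 (u hF 1 b) (u hF 1 g₀) := by
  have hchar := charP_two hF
  have h2 : (2 : F) = 0 := CharTwo.two_eq_zero
  obtain ⟨a, ha0, ha1⟩ := SuzukiForm.exists_ne_zero_ne_one hm hF
  have hc0 : a + 1 ≠ 0 := fun h => ha1 (CharTwo.add_eq_zero.1 h)
  have hμ0 : a ^ (2 ^ (m + 1) + 1) ≠ 0 := pow_ne_zero _ ha0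
  have hμ1 : a ^ (2 ^ (m + 1) + 1) ≠ 1 := fun h => ha1 (eq_one_of_pow_sigma_add_one hF h)
  obtain ⟨n, hn, hn'⟩ := exists_mul_notMem hF hμ0 hμ1
  have key : ∀ b₁, b + b₁ ∈ N hF → Prod2 (u hF 1 b)
      (u hF 1 (a ^ (2 ^ (m + 1) + 1) * b₁ + (a + 1) ^ (2 ^ (m + 1) + 1) * b + a ^ 2 ^ (m + 1) * (a + 1))) := by
    intro b₁ hb₁
    have h3 := Prod2.mk (x := u hF 1 b) (conj_u_u hF ha0 hb₁)
      (conj_u_u hF hc0 (b' := b) (by rw [CharTwo.add_self_eq_zero]; exact zero_mem _))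
    rw [u_mul, ← add_assoc, CharTwo.add_self_eq_zero, zero_add] at h3
    exact h3
  have fin : ∀ c, Prod2 (u hF 1 b) (u hF 1 c) → g₀ + c ∈ N hF → Prod2 (u hF 1 b) (u hF 1 g₀) := by
    intro c hc h3
    obtain ⟨y, hy⟩ := conj_u_u hF (one_ne_zero : (1 : F) ≠ 0) h3
    rw [one_pow, one_mul] at hy
    exact hc.of_conj hy
  by_cases h3 : g₀ + (a ^ (2 ^ (m + 1) + 1) * b + (a + 1) ^ (2 ^ (m + 1) + 1) * b + a ^ 2 ^ (m + 1) * (a + 1)) ∈ N hF
  · exact fin _ (key b (by rw [CharTwo.add_self_eq_zero]; exact zero_mem _)) h3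
  · apply fin _ (key (b + n) (by rw [← add_assoc, CharTwo.add_self_eq_zero, zero_add]; exact hn))
    have h4 : g₀ + (a ^ (2 ^ (m + 1) + 1) * (b + n) + (a + 1) ^ (2 ^ (m + 1) + 1) * b + a ^ 2 ^ (m + 1) * (a + 1)) =
      g₀ + (a ^ (2 ^ (m + 1) + 1) * b + (a + 1) ^ (2 ^ (m + 1) + 1) * b + a ^ 2 ^ (m + 1) * (a + 1)) +
      a ^ (2 ^ (m + 1) + 1) * n := by ring
    rw [h4, add_mem_iff]
    exact ⟨fun h => absurd h h3, fun h => absurd h hn'⟩

/-- `x` of order four, `g` an involution -/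
theorem four_inv (hF : Fintype.card F = 2 ^ (2 * m + 1)) (b : F) : Prod2 (u hF 1 b) (u hF 0 1) := by
  have hchar := charP_two hF
  refine ⟨1, 1, ?_⟩
  rw [one_mul, inv_one, mul_one, u_mul, CharTwo.add_self_eq_zero, CharTwo.add_self_eq_zero, one_pow, one_mul, zero_add]

/-- normal forms of the 2-elements -/
theorem exists_two_form (hm : 1 ≤ m) (hF : Fintype.card F = 2 ^ (2 * m + 1)) {g : Cfsg.Sz F m} (hg : g ≠ 1)
    {P : Sylow 2 (Cfsg.Sz F m)} (hP : g ∈ (P : Subgroup (Cfsg.Sz F m))) :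
    (∃ y, y * g * y⁻¹ = u hF 0 1) ∨ (∃ y b, y * g * y⁻¹ = u hF 1 b) := by
  obtain ⟨y, a, b, e⟩ := exists_conj_u_of_mem hm hF hP
  by_cases ha : a = 0
  · left
    subst ha
    have hb : b ≠ 0 := by
      rintro rfl
      rw [u_zero_zero] at e
      apply hg
      calc g = y⁻¹ * (y * g * y⁻¹) * y := by group
        _ = 1 := by rw [e]; group
    obtain ⟨k, hk0, hk⟩ := exists_pow_sigma_add_one hF b hb
    refine ⟨(h hF (Units.mk0 k hk0))⁻¹ * y, ?_⟩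
    have h1 : h hF (Units.mk0 k hk0) * u hF 0 1 * (h hF (Units.mk0 k hk0))⁻¹ = u hF 0 b := by
      rw [h_mul_u, mul_inv_cancel_right, mul_zero, mul_one, Units.val_mk0, hk]
    calc (h hF (Units.mk0 k hk0))⁻¹ * y * g * ((h hF (Units.mk0 k hk0))⁻¹ * y)⁻¹ =
        (h hF (Units.mk0 k hk0))⁻¹ * (y * g * y⁻¹) * h hF (Units.mk0 k hk0) := by group
      _ = u hF 0 1 := by rw [e, ← h1]; group
  · right
    obtain ⟨z, b', hz⟩ := conj_u_one hF ha b
    refine ⟨z * y, b', ?_⟩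
    rw [← hz, ← e]
    group

theorem Prod2.of_conj_left {G : Type*} [Group G] {x x' g : G} (h : Prod2 x' g) {y : G} (e : y * x * y⁻¹ = x') :
    Prod2 x g := by
  obtain ⟨u, v, rfl⟩ := h
  refine ⟨u * y, v * y, ?_⟩
  rw [← e]
  group

/-- **Every nonidentity element is a product of two conjugates of `x`.** -/
theorem main (hm : 1 ≤ m) (hF : Fintype.card F = 2 ^ (2 * m + 1)) {x g : Cfsg.Sz F m}
    (hx : x * x ≠ 1) (hg : g ≠ 1) : Prod2 x g := by
  by_cases hgP : ∃ P : Sylow 2 (Cfsg.Sz F m), g ∈ (P : Subgroup (Cfsg.Sz F m))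
  · obtain ⟨P, hP⟩ := hgP
    by_cases hxP : ∃ P : Sylow 2 (Cfsg.Sz F m), x ∈ (P : Subgroup (Cfsg.Sz F m))
    · obtain ⟨P', hP'⟩ := hxP
      have hx1 : x ≠ 1 := by
        rintro rfl
        exact hx (one_mul 1)
      rcases exists_two_form hm hF hx1 hP' with ⟨y, e⟩ | ⟨y, b, e⟩
      · exfalso
        apply hx
        have h1 : u hF (0 : F) 1 * u hF 0 1 = 1 := (SzSubConj.sq_eq_one_iff hF _ _).2 rfl
        calc x * x = y⁻¹ * ((y * x * y⁻¹) * (y * x * y⁻¹)) * y := by group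
          _ = 1 := by rw [e, h1]; group
      · apply Prod2.of_conj_left _ e
        rcases exists_two_form hm hF hg hP with ⟨z, e'⟩ | ⟨z, b', e'⟩
        · exact (four_inv hF b).of_conj e'
        · exact (four_four hm hF b b').of_conj e'
    · push Not at hxP
      have hx' := tr_ne_zero hm hF hxP
      rcases exists_two_form hm hF hg hP with ⟨z, e'⟩ | ⟨z, b', e'⟩
      · exact (odd_inv hm hF hx').of_conj e'
      · exact (odd_four hm hF hx' b').of_conj e'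
  · push Not at hgP
    have hg' := tr_ne_zero hm hF hgP
    by_cases hxP : ∃ P : Sylow 2 (Cfsg.Sz F m), x ∈ (P : Subgroup (Cfsg.Sz F m))
    · obtain ⟨P', hP'⟩ := hxP
      have hx1 : x ≠ 1 := by
        rintro rfl
        exact hx (one_mul 1)
      rcases exists_two_form hm hF hx1 hP' with ⟨y, e⟩ | ⟨y, b, e⟩
      · exfalso
        apply hx
        have h1 : u hF (0 : F) 1 * u hF 0 1 = 1 := (SzSubConj.sq_eq_one_iff hF _ _).2 rfl
        calc x * x = y⁻¹ * ((y * x * y⁻¹) * (y * x * y⁻¹)) * y := by group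
          _ = 1 := by rw [e, h1]; group
      · exact Prod2.of_conj_left (four_odd hm hF hg' b) e
    · push Not at hxP
      exact odd_odd hm hF (tr_ne_zero hm hF hxP) hg'

end Cfsg.Agent.H98.SzCover
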