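import Cfsg.Agent.H98.SzPartition
import Cfsg.Agent.H98.SzSubConj
import Cfsg.Agent.H98.SzReal

/-!
# Elements of odd order of the Suzuki groups: strongly real, determined by the trace

Every nonidentity element of odd order is inverted by an involution, hence conjugate to `w * u 0 b` for some
`b ≠ 0`; its trace is `b^σ`. So two elements with the same nonzero trace are conjugate.
-/

set_option autoImplicit false

namespace Cfsg.Agent.H98.SzInv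

open scoped MatrixGroups Matrix Pointwise
open Matrix MulAction
open Cfsg.Agent.LieExceptional
open Cfsg.Agent.LieExceptional.SuzukiBasic Cfsg.Agent.LieExceptional.SuzukiSylow
open Cfsg.Agent.LieExceptional.SuzukiCN
open Cfsg.Agent.H98.SzBasic Cfsg.Agent.H98.SzPartition Cfsg.Agent.H98.SzSubConj

/-- A cyclic (abelian) self-centralising subgroup `U` of odd order with `|N(U)|` even is inverted by an
involution. -/
theorem inverts {J : Type*} [Group J] [Finite J] {U : Subgroup J} (hk : Odd (Nat.card U)) (hab : ∀ u ∈ U, ∀ v ∈ U, u * v = v * u)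
    (hc : ∀ u ∈ U, u ≠ 1 → Subgroup.centralizer {u} = U)
    (hN : 2 ∣ Nat.card (Subgroup.normalizer (U : Set J))) :
    ∃ t : J, t * t = 1 ∧ t ≠ 1 ∧ ∀ u ∈ U, t * u * t⁻¹ = u⁻¹ := by
  have : Fact (Nat.Prime 2) := ⟨Nat.prime_two⟩
  obtain ⟨t, ht⟩ := exists_prime_orderOf_dvd_card' (G := Subgroup.normalizer (U : Set J)) 2 hN
  have ht' : orderOf (t : J) = 2 := by rw [Subgroup.orderOf_coe]; exact ht
  have htt : (t : J) * t = 1 := by rw [← pow_two, ← ht', pow_orderOf_eq_one]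
  have ht1 : (t : J) ≠ 1 := by
    intro h
    rw [h, orderOf_one] at ht'
    omega
  have htU : (t : J) ∉ U := by
    intro h
    have h1 : orderOf (⟨t, h⟩ : U) ∣ Nat.card U := orderOf_dvd_natCard _
    rw [← Subgroup.orderOf_coe] at h1
    change orderOf (t : J) ∣ _ at h1
    rw [ht'] at h1
    rw [Nat.odd_iff] at hk
    omega
  refine ⟨t, htt, ht1, fun u hu => ?_⟩
  have hconj : (t : J) * u * (t : J)⁻¹ ∈ U := (Subgroup.mem_normalizer_iff.1 t.2 u).1 hu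
  set c := u * ((t : J) * u * (t : J)⁻¹) with hcdef
  have hcU : c ∈ U := mul_mem hu hconj
  have h1 : (t : J) * c = c * t := by
    have h2 : (t : J) * c * (t : J)⁻¹ = ((t : J) * u * (t : J)⁻¹) * u := by
      have h3 : (t : J)⁻¹ = t := inv_eq_of_mul_eq_one_left htt
      calc (t : J) * c * (t : J)⁻¹ = ((t : J) * u * (t : J)⁻¹) * (((t : J) * t) * u * ((t : J)⁻¹ * (t : J)⁻¹)) := by
            rw [hcdef]; group
        _ = _ := by rw [h3, htt, one_mul, mul_one]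
    rw [hab _ hconj _ hu, ← hcdef] at h2
    exact mul_inv_eq_iff_eq_mul.1 h2
  by_contra hne
  have hc1 : c ≠ 1 := by
    intro h
    apply hne
    exact (eq_inv_of_mul_eq_one_right h)
  have h3 : (t : J) ∈ Subgroup.centralizer {c} := Subgroup.mem_centralizer_singleton_iff.2 h1
  rw [hc c hcU hc1] at h3
  exact htU h3

variable {F : Type*} [Field F] [Fintype F] {m : ℕ}

/-- an element of a Sylow 2-subgroup is conjugate to some `u a b` -/
theorem exists_conj_u_of_mem (hm : 1 ≤ m) (hF : Fintype.card F = 2 ^ (2 * m + 1)) {g : Cfsg.Sz F m}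
    {P : Sylow 2 (Cfsg.Sz F m)} (hP : g ∈ (P : Subgroup (Cfsg.Sz F m))) :
    ∃ (y : Cfsg.Sz F m) (a b : F), y * g * y⁻¹ = u hF a b := by
  have := finite_ovoid F m
  obtain ⟨y, rfl⟩ := MulAction.exists_smul_eq (Cfsg.Sz F m) (sylowQ hm hF) P
  obtain ⟨a, b, hab⟩ := (mem_smul_sylowQ_iff hm hF y g).1 hP
  exact ⟨y⁻¹, a, b, by rw [inv_inv]; exact hab⟩

theorem mem_sylow_of_conj_u (hm : 1 ≤ m) (hF : Fintype.card F = 2 ^ (2 * m + 1)) {g y : Cfsg.Sz F m} {a b : F}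
    (e : y * g * y⁻¹ = u hF a b) : ∃ P : Sylow 2 (Cfsg.Sz F m), g ∈ (P : Subgroup (Cfsg.Sz F m)) := by
  refine ⟨y⁻¹ • sylowQ hm hF, (mem_smul_sylowQ_iff hm hF _ _).2 ⟨a, b, ?_⟩⟩
  rw [inv_inv]
  exact e

omit [Fintype F] in
theorem mem_sylow_of_sq {g : Cfsg.Sz F m} (hg : g * g = 1) : ∃ P : Sylow 2 (Cfsg.Sz F m), g ∈ (P : Subgroup (Cfsg.Sz F m)) := by
  have : Fact (Nat.Prime 2) := ⟨Nat.prime_two⟩
  have hp : IsPGroup 2 (Subgroup.zpowers g) := by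
    rintro ⟨x, hx⟩
    obtain ⟨n, rfl⟩ := Subgroup.mem_zpowers_iff.1 hx
    refine ⟨1, Subtype.ext ?_⟩
    show (g ^ n) ^ 2 ^ 1 = 1
    rw [pow_one, pow_two, ← (Commute.refl g).mul_zpow, hg, _root_.one_zpow]
  obtain ⟨P, hP⟩ := hp.exists_le_sylow
  exact ⟨P, hP (Subgroup.mem_zpowers g)⟩

/-- every element not in a Sylow 2-subgroup is inverted by an involution -/
theorem exists_inverts (hm : 1 ≤ m) (hF : Fintype.card F = 2 ^ (2 * m + 1)) {g : Cfsg.Sz F m}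
    (hg : ∀ P : Sylow 2 (Cfsg.Sz F m), g ∉ (P : Subgroup (Cfsg.Sz F m))) :
    ∃ t : Cfsg.Sz F m, t * t = 1 ∧ t ≠ 1 ∧ t * g * t⁻¹ = g⁻¹ := by
  have hov := finite_ovoid F m
  have hg1 : g ≠ 1 := fun e => hg (sylowQ hm hF) (by rw [e]; exact one_mem _)
  have hfin : Finite (Cfsg.Sz F m) := inferInstance
  rcases trichotomy hm hF hg1 with hfree | ⟨y, k, hk, e⟩ | ⟨y, a, b, hab, e⟩
  · have HH := SuzukiHyp.hyp hm hF
    -- a torus containing a conjugate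
    obtain ⟨n, hn, g₁, hg₁, hc₁, hN₁, y, hy⟩ : ∃ n ∈ torusOrders m,
        ∃ g₁ ∈ SuzukiTori.Hyp.free (Cfsg.Sz F m) (Cfsg.suzukiOvoid F m),
        Nat.card (Subgroup.centralizer ({g₁} : Set (Cfsg.Sz F m))) = n ∧
        Nat.card (Subgroup.normalizer ((Subgroup.centralizer ({g₁} : Set (Cfsg.Sz F m)) : Subgroup (Cfsg.Sz F m)) : Set (Cfsg.Sz F m))) = 4 * n ∧
        ∃ y : Cfsg.Sz F m, y⁻¹ * g * y ∈ Subgroup.centralizer ({g₁} : Set (Cfsg.Sz F m)) := by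
      obtain ⟨p, k, hp, hpq, hk⟩ := HH.exists_prime_pow hfree
      have hpc : p ∣ Nat.card (Subgroup.centralizer ({g} : Set (Cfsg.Sz F m))) := by
        rw [← hk]
        exact Subgroup.orderOf_dvd_natCard _ (Subgroup.mem_centralizer_singleton_iff.2 (Commute.self_pow g k).symm)
      have key : ∀ n ∈ ({2 ^ (2 * m + 1) + 2 ^ (m + 1) + 1, 2 ^ (2 * m + 1) - 2 ^ (m + 1) + 1} : Set ℕ), p ∣ n →
          ∃ g₁ ∈ SuzukiTori.Hyp.free (Cfsg.Sz F m) (Cfsg.suzukiOvoid F m),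
          Nat.card (Subgroup.centralizer ({g₁} : Set (Cfsg.Sz F m))) = n ∧
          Nat.card (Subgroup.normalizer ((Subgroup.centralizer ({g₁} : Set (Cfsg.Sz F m)) : Subgroup (Cfsg.Sz F m)) : Set (Cfsg.Sz F m))) = 4 * n ∧
          ∃ y : Cfsg.Sz F m, y⁻¹ * g * y ∈ Subgroup.centralizer ({g₁} : Set (Cfsg.Sz F m)) := by
        intro n hn hpn
        obtain ⟨g₁, hg₁, hc₁, hN₁⟩ := HH.exists_tori rfl n hn
        obtain ⟨-, y, hy⟩ := HH.mem_tset_of_dvd hg₁ hfree hp (by rw [hc₁]; exact hpn) hpc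
        exact ⟨g₁, hg₁, hc₁, hN₁, y, hy⟩
      rw [← mul_tori] at hpq
      rcases (hp.dvd_mul).1 hpq with h1 | h1
      · exact ⟨_, Or.inr (Or.inl rfl), key _ (by simp) h1⟩
      · exact ⟨_, Or.inr (Or.inr rfl), key _ (by simp) h1⟩
    obtain ⟨t, ht1, ht2, ht3⟩ := inverts (U := Subgroup.centralizer ({g₁} : Set (Cfsg.Sz F m)))
      (by rw [hc₁]; exact odd_of_mem hn) (HH.comm_of_free hg₁) (fun u hu hu1 => HH.centralizer_eq hg₁ hu hu1)
      (by rw [hN₁]; exact ⟨2 * n, by ring⟩)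
    have h5 := ht3 _ hy
    refine ⟨y * t * y⁻¹, ?_, ?_, ?_⟩
    · calc y * t * y⁻¹ * (y * t * y⁻¹) = y * (t * t) * y⁻¹ := by group
        _ = 1 := by rw [ht1]; group
    · intro e
      apply ht2
      calc t = y⁻¹ * (y * t * y⁻¹) * y := by group
        _ = 1 := by rw [e]; group
    · calc y * t * y⁻¹ * g * (y * t * y⁻¹)⁻¹ = y * (t * (y⁻¹ * g * y) * t⁻¹) * y⁻¹ := by group
        _ = y * (y⁻¹ * g * y)⁻¹ * y⁻¹ := by rw [h5]
        _ = g⁻¹ := by group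
  · refine ⟨y⁻¹ * w hF * y, ?_, ?_, ?_⟩
    · calc y⁻¹ * w hF * y * (y⁻¹ * w hF * y) = y⁻¹ * (w hF * w hF) * y := by group
        _ = 1 := by rw [w_mul_w]; group
    · intro e'
      have h1 : w hF = 1 := by
        calc w hF = y * (y⁻¹ * w hF * y) * y⁻¹ := by group
          _ = 1 := by rw [e']; group
      have h2 := w_smul_inf hF
      rw [h1, one_smul] at h2
      exact zer_ne_inf h2.symm
    · have h1 : w hF * h hF k * (w hF)⁻¹ = (h hF k)⁻¹ := by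
        rw [w_mul_h, mul_inv_cancel_right, h_inv]
      calc y⁻¹ * w hF * y * g * (y⁻¹ * w hF * y)⁻¹ = y⁻¹ * (w hF * (y * g * y⁻¹) * (w hF)⁻¹) * y := by group
        _ = y⁻¹ * (h hF k)⁻¹ * y := by rw [e, h1]
        _ = y⁻¹ * (y * g * y⁻¹)⁻¹ * y := by rw [e]
        _ = g⁻¹ := by group
  · obtain ⟨P, hP⟩ := mem_sylow_of_conj_u hm hF e
    exact absurd hP (hg P)

/-- an involution fixing infinity lies in `Q` -/
theorem eq_u_of_sq (hm : 1 ≤ m) (hF : Fintype.card F = 2 ^ (2 * m + 1)) {t : Cfsg.Sz F m} (ht : t * t = 1)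
    (h1 : t • inf F m = inf F m) : ∃ b : F, t = u hF 0 b := by
  obtain ⟨a, b, k, rfl⟩ := eq_u_mul_h hm hF h1
  have ht' := ht
  rw [uh_mul_uh] at ht'
  have h2 : u hF (0 : F) 0 * h hF (1 : Fˣ) = 1 := by rw [u_zero_zero, h_one, one_mul]
  rw [← h2] at ht'
  have hk := (u_mul_h_inj hF ht').2.2
  have hk1 : k = 1 := unit_eq_one_of_pow_two_pow hF (j := 1) (by rw [pow_one, pow_two]; exact hk)
  rw [hk1, h_one, mul_one, SzSubConj.sq_eq_one_iff] at ht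
  exact ⟨b, by rw [hk1, ht, h_one, mul_one]⟩

/-- **Normal form of the elements of odd order**: `w * u 0 b`. -/
theorem exists_conj_w_u (hm : 1 ≤ m) (hF : Fintype.card F = 2 ^ (2 * m + 1)) {g : Cfsg.Sz F m}
    (hg : ∀ P : Sylow 2 (Cfsg.Sz F m), g ∉ (P : Subgroup (Cfsg.Sz F m))) :
    ∃ (y : Cfsg.Sz F m) (b : F), b ≠ 0 ∧ y * g * y⁻¹ = w hF * u hF 0 b := by
  obtain ⟨t, ht, ht1, hinv⟩ := exists_inverts hm hF hg
  have htinv : t⁻¹ = t := inv_eq_of_mul_eq_one_left ht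
  -- `s = t g` is an involution
  have hs : (t * g) * (t * g) = 1 := by
    rw [htinv] at hinv
    calc (t * g) * (t * g) = (t * g * t) * g := by group
      _ = 1 := by rw [hinv, inv_mul_cancel]
  obtain ⟨P, hP⟩ := mem_sylow_of_sq hs
  obtain ⟨y₁, a, b, e₁⟩ := exists_conj_u_of_mem hm hF hP
  have ha : a = 0 := by
    rw [← SzSubConj.sq_eq_one_iff hF a b, ← e₁]
    calc y₁ * (t * g) * y₁⁻¹ * (y₁ * (t * g) * y₁⁻¹) = y₁ * ((t * g) * (t * g)) * y₁⁻¹ := by group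
      _ = 1 := by rw [hs]; group
  subst ha
  -- the conjugate of `t`
  have ht₁ : (y₁ * t * y₁⁻¹) * (y₁ * t * y₁⁻¹) = 1 := by
    calc (y₁ * t * y₁⁻¹) * (y₁ * t * y₁⁻¹) = y₁ * (t * t) * y₁⁻¹ := by group
      _ = 1 := by rw [ht]; group
  have hg₁ : y₁ * g * y₁⁻¹ = (y₁ * t * y₁⁻¹) * u hF 0 b := by
    rw [← e₁]
    calc y₁ * g * y₁⁻¹ = y₁ * (t * t) * g * y₁⁻¹ := by rw [ht]; group
      _ = y₁ * t * y₁⁻¹ * (y₁ * (t * g) * y₁⁻¹) := by group
  have hne : (y₁ * t * y₁⁻¹) • inf F m ≠ inf F m := by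
    intro e
    obtain ⟨c, hc⟩ := eq_u_of_sq hm hF ht₁ e
    rw [hc, u_mul] at hg₁
    obtain ⟨P', hP'⟩ := mem_sylow_of_conj_u hm hF hg₁
    exact hg P' hP'
  rcases point_cases ((y₁ * t * y₁⁻¹) • inf F m) with h4 | ⟨x, z, h4⟩
  · exact absurd h4 hne
  -- second conjugation
  set t₂ := (u hF x z)⁻¹ * (y₁ * t * y₁⁻¹) * u hF x z with ht₂
  have h5 : t₂ • inf F m = zer F m := by
    rw [ht₂, mul_smul, mul_smul, u_smul_inf, h4, inv_smul_eq_iff, u_smul_zer]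
  have ht₂2 : t₂ * t₂ = 1 := by
    calc t₂ * t₂ = (u hF x z)⁻¹ * ((y₁ * t * y₁⁻¹) * (y₁ * t * y₁⁻¹)) * u hF x z := by rw [ht₂]; group
      _ = 1 := by rw [ht₁]; group
  have h6 : t₂ • zer F m = inf F m := by
    rw [← h5, smul_smul, ht₂2, one_smul]
  obtain ⟨j, hj⟩ := eq_h hm hF (g := w hF * t₂) (by rw [mul_smul, h5, w_smul_zer])
    (by rw [mul_smul, h6, w_smul_inf])
  have h7 : t₂ = w hF * h hF j := by
    rw [← hj, ← mul_assoc, w_mul_w, one_mul]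
  have hcomm : (u hF x z)⁻¹ * u hF 0 b * u hF x z = u hF 0 b := by
    rw [mul_assoc, inv_mul_eq_iff_eq_mul, u_mul, u_mul]
    congr 1
    · ring
    · rw [zero_pow (sigma_ne_zero m)]; ring
  have hg₂ : (u hF x z)⁻¹ * (y₁ * g * y₁⁻¹) * u hF x z = (w hF * h hF j) * u hF 0 b := by
    rw [hg₁]
    calc (u hF x z)⁻¹ * (y₁ * t * y₁⁻¹ * u hF 0 b) * u hF x z =
        ((u hF x z)⁻¹ * (y₁ * t * y₁⁻¹) * u hF x z) * ((u hF x z)⁻¹ * u hF 0 b * u hF x z) := by group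
      _ = (w hF * h hF j) * u hF 0 b := by rw [hcomm, ← ht₂, h7]
  obtain ⟨s, hs'⟩ := exists_sq hF j
  refine ⟨h hF s * (u hF x z)⁻¹ * y₁, (s : F) ^ (2 ^ (m + 1) + 1) * b, ?_, ?_⟩
  · apply mul_ne_zero (pow_ne_zero _ s.ne_zero)
    rintro rfl
    -- `g` would be an involution
    rw [u_zero_zero, mul_one] at hg₁
    apply (fun h => (mem_sylow_of_sq h).elim hg)
    calc g * g = y₁⁻¹ * ((y₁ * g * y₁⁻¹) * (y₁ * g * y₁⁻¹)) * y₁ := by group
      _ = 1 := by rw [hg₁, ht₁]; group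
  · have h8 : h hF s * (w hF * h hF j) * (h hF s)⁻¹ = w hF := by
      rw [← mul_assoc, ← inv_inv s, ← w_mul_h, mul_assoc, mul_assoc, inv_inv, h_inv,
        ← h_mul, ← h_mul, ← hs']
      have : s⁻¹ * (s * s * s⁻¹) = 1 := by group
      rw [this, h_one, mul_one]
    have h9 : h hF s * u hF 0 b * (h hF s)⁻¹ = u hF 0 ((s : F) ^ (2 ^ (m + 1) + 1) * b) := by
      rw [h_mul_u, mul_inv_cancel_right, mul_zero]
    calc h hF s * (u hF x z)⁻¹ * y₁ * g * (h hF s * (u hF x z)⁻¹ * y₁)⁻¹ =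
        h hF s * ((u hF x z)⁻¹ * (y₁ * g * y₁⁻¹) * u hF x z) * (h hF s)⁻¹ := by group
      _ = (h hF s * (w hF * h hF j) * (h hF s)⁻¹) * (h hF s * u hF 0 b * (h hF s)⁻¹) := by rw [hg₂]; group
      _ = w hF * u hF 0 ((s : F) ^ (2 ^ (m + 1) + 1) * b) := by rw [h8, h9]

/-! ### Traces -/

/-- the trace of an element -/
def tr (g : Cfsg.Sz F m) : F := Matrix.trace ((g : SL(4, F)) : Matrix (Fin 4) (Fin 4) F)

omit [Fintype F] in
theorem tr_mul_comm (g g' : Cfsg.Sz F m) : tr (g * g') = tr (g' * g) := Matrix.trace_mul_comm _ _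

omit [Fintype F] in
theorem tr_conj (y g : Cfsg.Sz F m) : tr (y * g * y⁻¹) = tr g := by
  rw [tr_mul_comm, ← mul_assoc, inv_mul_cancel, one_mul]

theorem tr_u (hF : Fintype.card F = 2 ^ (2 * m + 1)) (a b : F) : tr (u hF a b) = 0 := by
  have := charP_two hF
  have h2 : (2 : F) = 0 := CharTwo.two_eq_zero
  show Matrix.trace ((U m a b : SL(4, F)) : Matrix (Fin 4) (Fin 4) F) = 0
  rw [U_coe]
  simp [Matrix.trace, Fin.sum_univ_four]
  linear_combination 2 * h2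

theorem tr_w_h_u (hF : Fintype.card F = 2 ^ (2 * m + 1)) (k : Fˣ) (a b : F) :
    tr (w hF * h hF k * u hF a b) = (k : F) ^ (2 ^ m + 1) * zc m a b + (k : F) ^ 2 ^ m * a ^ 2 ^ (m + 1) := by
  show Matrix.trace (((W F : SL(4, F)) : Matrix (Fin 4) (Fin 4) F) * ((H m k : SL(4, F)) : Matrix (Fin 4) (Fin 4) F) *
    ((U m a b : SL(4, F)) : Matrix (Fin 4) (Fin 4) F)) = _
  rw [U_coe, H_coe, W_coe]
  simp only [Matrix.trace, Matrix.diag_apply, Fin.sum_univ_four, Matrix.mul_apply, Matrix.diagonal_apply]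
  simp
  rw [add_comm]

theorem tr_w_u (hF : Fintype.card F = 2 ^ (2 * m + 1)) (a b : F) :
    tr (w hF * u hF a b) = zc m a b + a ^ 2 ^ (m + 1) := by
  have := tr_w_h_u hF 1 a b
  rwa [h_one, mul_one, Units.val_one, one_pow, one_pow, one_mul, one_mul] at this

omit [Fintype F] in
theorem zc_zero (b : F) : zc m (0 : F) b = b ^ 2 ^ (m + 1) := by
  rw [zc_def, zero_mul, zero_pow (sigma_add_two_ne_zero m), zero_add, zero_add]

theorem tr_w_u_zero (hF : Fintype.card F = 2 ^ (2 * m + 1)) (b : F) :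
    tr (w hF * u hF 0 b) = b ^ 2 ^ (m + 1) := by
  rw [tr_w_u, zc_zero, zero_pow (sigma_ne_zero m), add_zero]

theorem tr_eq_zero_of_mem (hm : 1 ≤ m) (hF : Fintype.card F = 2 ^ (2 * m + 1)) {g : Cfsg.Sz F m}
    {P : Sylow 2 (Cfsg.Sz F m)} (hP : g ∈ (P : Subgroup (Cfsg.Sz F m))) : tr g = 0 := by
  obtain ⟨y, a, b, e⟩ := exists_conj_u_of_mem hm hF hP
  rw [← tr_conj y g, e, tr_u]

theorem notMem_of_tr (hm : 1 ≤ m) (hF : Fintype.card F = 2 ^ (2 * m + 1)) {g : Cfsg.Sz F m} (hg : tr g ≠ 0) :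
    ∀ P : Sylow 2 (Cfsg.Sz F m), g ∉ (P : Subgroup (Cfsg.Sz F m)) :=
  fun _ hP => hg (tr_eq_zero_of_mem hm hF hP)

theorem tr_ne_zero (hm : 1 ≤ m) (hF : Fintype.card F = 2 ^ (2 * m + 1)) {g : Cfsg.Sz F m}
    (hg : ∀ P : Sylow 2 (Cfsg.Sz F m), g ∉ (P : Subgroup (Cfsg.Sz F m))) : tr g ≠ 0 := by
  obtain ⟨y, b, hb, e⟩ := exists_conj_w_u hm hF hg
  rw [← tr_conj y g, e, tr_w_u_zero]
  exact pow_ne_zero _ hb

/-- **two elements with the same nonzero trace are conjugate** -/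
theorem conj_of_tr (hm : 1 ≤ m) (hF : Fintype.card F = 2 ^ (2 * m + 1)) {g g' : Cfsg.Sz F m} (hg : tr g ≠ 0)
    (e : tr g = tr g') : ∃ y, y * g * y⁻¹ = g' := by
  obtain ⟨y, b, hb, e₁⟩ := exists_conj_w_u hm hF (notMem_of_tr hm hF hg)
  obtain ⟨y', b', hb', e₂⟩ := exists_conj_w_u hm hF (notMem_of_tr hm hF (g := g') (by rw [← e]; exact hg))
  have h1 : b ^ 2 ^ (m + 1) = b' ^ 2 ^ (m + 1) := by
    rw [← tr_w_u_zero hF, ← e₁, tr_conj, e, ← tr_conj y' g', e₂, tr_w_u_zero]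
  have h2 : b = b' := sigma_injective hF h1
  refine ⟨y'⁻¹ * y, ?_⟩
  calc y'⁻¹ * y * g * (y'⁻¹ * y)⁻¹ = y'⁻¹ * (y * g * y⁻¹) * y' := by group
    _ = g' := by rw [e₁, h2, ← e₂]; group

end Cfsg.Agent.H98.SzInv
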