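import Cfsg.Agent.H98.SzBasic
import Cfsg.Agent.LieExceptional.SuzukiForm
import Cfsg.Prelude.Def_Transfer

/-!
# Elementary abelian TI-subgroups of the Suzuki groups
-/

set_option autoImplicit false

namespace Cfsg.Agent.H98.SzTI

open scoped MatrixGroups Matrix Pointwise
open Matrix MulAction
open Cfsg.Agent.LieExceptional
open Cfsg.Agent.LieExceptional.SuzukiBasic Cfsg.Agent.LieExceptional.SuzukiSylow
open Cfsg.Agent.LieExceptional.SuzukiCN
open Cfsg.Agent.H98.SzBasic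

/-- characteristic two from the order -/
theorem charP_of_card {L : Type*} [Field L] {n : ℕ} (hn : n ≠ 0) (hL : Nat.card L = 2 ^ n) : CharP L 2 := by
  have : Finite L := Nat.finite_of_card_ne_zero (by rw [hL]; positivity)
  have := Fintype.ofFinite L
  exact SuzukiForm.charP_two hn (by rw [← Nat.card_eq_fintype_card]; exact hL)

/-- a homomorphism between finite fields of characteristic two -/
theorem exists_ringHom {K F : Type*} [Field K] [Field F] {a b : ℕ} (ha : a ≠ 0)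
    (hb : b ≠ 0) (hK : Nat.card K = 2 ^ a) (hF : Nat.card F = 2 ^ b) (hab : a ∣ b) :
    Nonempty (K →+* F) := by
  have : Fact (Nat.Prime 2) := ⟨Nat.prime_two⟩
  have : Finite K := Nat.finite_of_card_ne_zero (by rw [hK]; positivity)
  have : Finite F := Nat.finite_of_card_ne_zero (by rw [hF]; positivity)
  have := charP_of_card ha hK
  have := charP_of_card hb hF
  let : Algebra (ZMod 2) K := ZMod.algebra _ _
  let : Algebra (ZMod 2) F := ZMod.algebra _ _
  have h1 : Module.finrank (ZMod 2) K = a := by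
    have := FiniteField.pow_finrank_eq_natCard 2 K
    rw [hK] at this
    exact Nat.pow_right_injective le_rfl this
  have h2 : Module.finrank (ZMod 2) F = b := by
    have := FiniteField.pow_finrank_eq_natCard 2 F
    rw [hF] at this
    exact Nat.pow_right_injective le_rfl this
  obtain ⟨f⟩ := FiniteField.nonempty_algHom_of_finrank_dvd (F := ZMod 2) (K := K) (L := F) (by rw [h1, h2]; exact hab)
  exact ⟨f.toRingHom⟩

/-- the subfield of a given order -/
theorem exists_subfield {F : Type*} [Field F] {a b : ℕ} (ha : a ≠ 0)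
    (hb : b ≠ 0) (hF : Nat.card F = 2 ^ b) (hab : a ∣ b) : ∃ K : Subfield F, Nat.card K = 2 ^ a := by
  have : Fact (Nat.Prime 2) := ⟨Nat.prime_two⟩
  obtain ⟨f⟩ := exists_ringHom (K := GaloisField 2 a) ha hb (GaloisField.card 2 a ha) hF hab
  refine ⟨f.fieldRange, ?_⟩
  rw [← GaloisField.card 2 a ha]
  exact (Nat.card_congr (Equiv.ofInjective f f.injective)).symm

/-- the exponent of a subfield divides the exponent of the field -/
theorem dvd_of_subfield {F : Type*} [Field F] {a b : ℕ} (hF : Nat.card F = 2 ^ b)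
    (K : Subfield F) (hK : Nat.card K = 2 ^ a) : a ∣ b := by
  have : Finite F := Nat.finite_of_card_ne_zero (by rw [hF]; positivity)
  have h1 := Module.natCard_eq_pow_finrank (K := K) (V := F)
  rw [hF, hK, ← pow_mul] at h1
  exact ⟨_, Nat.pow_right_injective le_rfl h1⟩

variable {F : Type*} [Field F] [Fintype F] {m : ℕ}

/-- the subgroup `{u 0 b : b ∈ K}` -/
def EK (hF : Fintype.card F = 2 ^ (2 * m + 1)) (K : Subfield F) : Subgroup (Cfsg.Sz F m) where
  carrier := {g | ∃ b ∈ K, g = u hF 0 b}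
  mul_mem' := by
    rintro _ _ ⟨b, hb, rfl⟩ ⟨c, hc, rfl⟩
    exact ⟨b + c, add_mem hb hc, by rw [u_mul]; simp⟩
  one_mem' := ⟨0, zero_mem _, (u_zero_zero hF).symm⟩
  inv_mem' := by
    rintro _ ⟨b, hb, rfl⟩
    exact ⟨b, hb, by rw [u_inv]; simp⟩

theorem mem_EK_iff (hF : Fintype.card F = 2 ^ (2 * m + 1)) (K : Subfield F) (g : Cfsg.Sz F m) :
    g ∈ EK hF K ↔ ∃ b ∈ K, g = u hF 0 b := Iff.rfl

theorem conj_u_zero (hF : Fintype.card F = 2 ^ (2 * m + 1)) (c d b : F) (k : Fˣ) :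
    (u hF c d * h hF k) * u hF 0 b * (u hF c d * h hF k)⁻¹ = u hF 0 ((k : F) ^ (2 ^ (m + 1) + 1) * b) := by
  rw [mul_inv_eq_iff_eq_mul, mul_assoc, h_mul_u, ← mul_assoc, ← mul_assoc, u_mul, u_mul]
  congr 2
  · simp
  · rw [mul_zero, mul_zero, add_zero, zero_pow (sigma_ne_zero m), zero_mul, add_zero, add_comm]

theorem exists_of_dvd (hm : 1 ≤ m) (hF : Fintype.card F = 2 ^ (2 * m + 1)) {n : ℕ} (hn : 2 ≤ n)
    (hdvd : n ∣ 2 * m + 1) :
    ∃ E : Subgroup (Cfsg.Sz F m), Cfsg.IsElementaryAbelian 2 E ∧ Nat.card E = 2 ^ n ∧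
      ∀ x : Cfsg.Sz F m, E ⊓ E.map (MulAut.conj x).toMonoidHom ≠ ⊥ →
        x ∈ Subgroup.normalizer (E : Set (Cfsg.Sz F m)) := by
  obtain ⟨K, hK⟩ := exists_subfield (F := F) (a := n) (b := 2 * m + 1) (by omega) (by omega)
    (by rw [Nat.card_eq_fintype_card, hF]) hdvd
  have hchar := charP_two hF
  refine ⟨EK hF K, ⟨⟨⟨?_⟩⟩, ?_⟩, ?_, ?_⟩
  · rintro ⟨_, b, hb, rfl⟩ ⟨_, c, hc, rfl⟩
    apply Subtype.ext
    show u hF 0 b * u hF 0 c = u hF 0 c * u hF 0 b
    rw [u_mul, u_mul]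
    simp [add_comm]
  · rintro _ ⟨b, hb, rfl⟩
    rw [pow_two, u_mul, u_eq_one_iff]
    refine ⟨by simp, ?_⟩
    rw [mul_zero, add_zero]
    exact CharTwo.add_self_eq_zero b
  · rw [← hK]
    refine (Nat.card_congr (Equiv.ofBijective (fun b : K => (⟨u hF 0 b, b, b.2, rfl⟩ : EK hF K)) ⟨?_, ?_⟩)).symm
    · intro b c e
      have := congrArg Subtype.val e
      exact Subtype.ext ((u_eq_iff hF _ _ _ _).1 this).2
    · rintro ⟨_, b, hb, rfl⟩
      exact ⟨⟨b, hb⟩, rfl⟩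
  · intro x hx
    rw [Subgroup.ne_bot_iff_exists_ne_one] at hx
    obtain ⟨⟨g, hg1, hg2⟩, hg⟩ := hx
    have hg' : g ≠ 1 := fun e => hg (Subtype.ext e)
    obtain ⟨b', hb', rfl⟩ := hg1
    obtain ⟨_, ⟨b, hb, rfl⟩, e⟩ := hg2
    have e' : x * u hF 0 b * x⁻¹ = u hF 0 b' := e
    have hb0' : ¬ ((0 : F) = 0 ∧ b' = 0) := fun h0 => hg' ((u_eq_one_iff hF _ _).2 h0)
    have hfix : u hF 0 b' • (x • inf F m) = x • inf F m := by
      rw [← e', mul_smul, mul_smul, inv_smul_smul, u_smul_inf]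
    obtain ⟨c, d, k, rfl⟩ := eq_u_mul_h hm hF (u_fix hF hb0' hfix)
    rw [conj_u_zero, u_eq_iff] at e'
    have hb0 : b ≠ 0 := by
      rintro rfl
      exact hb0' ⟨rfl, by rw [← e'.2, mul_zero]⟩
    have hkK : (k : F) ^ (2 ^ (m + 1) + 1) ∈ K := by
      have h3 : (k : F) ^ (2 ^ (m + 1) + 1) = b' / b := by
        rw [← e'.2]; field_simp
      rw [h3]
      exact div_mem hb' hb
    have hkK' : ((k : F) ^ (2 ^ (m + 1) + 1))⁻¹ ∈ K := inv_mem hkK
    rw [Subgroup.mem_normalizer_iff]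
    intro z
    constructor
    · rintro ⟨t, ht, rfl⟩
      exact ⟨_, mul_mem hkK ht, conj_u_zero hF c d t k⟩
    · rintro ⟨t, ht, e4⟩
      refine ⟨((k : F) ^ (2 ^ (m + 1) + 1))⁻¹ * t, mul_mem hkK' ht, ?_⟩
      have h5 := conj_u_zero hF c d (((k : F) ^ (2 ^ (m + 1) + 1))⁻¹ * t) k
      rw [← mul_assoc, mul_inv_cancel₀ (pow_ne_zero _ k.ne_zero), one_mul, ← e4] at h5
      exact (mul_left_cancel (mul_right_cancel h5)).symm

omit [Fintype F] in
/-- a subset of a field closed under addition and under `b' * c / b` is a multiple of a subfield -/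
theorem exists_subfield_of_closed {B : Set F} (h0 : (0 : F) ∈ B) (hadd : ∀ b ∈ B, ∀ c ∈ B, b + c ∈ B)
    (hneg : ∀ b ∈ B, -b ∈ B)
    (hmul : ∀ b ∈ B, ∀ b' ∈ B, ∀ c ∈ B, b ≠ 0 → b' / b * c ∈ B) {b₀ : F} (hb₀ : b₀ ∈ B) (hb₀0 : b₀ ≠ 0) :
    ∃ K : Subfield F, ∀ z, z ∈ K ↔ z * b₀ ∈ B := by
  refine ⟨{ carrier := {z | z * b₀ ∈ B}
            mul_mem' := ?_
            one_mem' := by show (1 : F) * b₀ ∈ B; rw [one_mul]; exact hb₀
            add_mem' := ?_
            zero_mem' := by show (0 : F) * b₀ ∈ B; rw [zero_mul]; exact h0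
            neg_mem' := ?_
            inv_mem' := ?_ }, fun z => Iff.rfl⟩
  · intro x y hx hy
    show x * y * b₀ ∈ B
    have h1 := hmul b₀ hb₀ _ hx _ hy hb₀0
    have h2 : x * b₀ / b₀ * (y * b₀) = x * y * b₀ := by field_simp
    rwa [h2] at h1
  · intro x y hx hy
    show (x + y) * b₀ ∈ B
    rw [add_mul]
    exact hadd _ hx _ hy
  · intro x hx
    show -x * b₀ ∈ B
    rw [neg_mul]
    exact hneg _ hx
  · intro x hx
    show x⁻¹ * b₀ ∈ B
    by_cases hx0 : x = 0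
    · rw [hx0, _root_.inv_zero, zero_mul]; exact h0
    · have h1 := hmul _ hx b₀ hb₀ b₀ hb₀ (mul_ne_zero hx0 hb₀0)
      have h2 : b₀ / (x * b₀) * b₀ = x⁻¹ * b₀ := by field_simp
      rwa [h2] at h1

theorem dvd_of_exists (hm : 1 ≤ m) (hF : Fintype.card F = 2 ^ (2 * m + 1)) {n : ℕ} (hn : 2 ≤ n)
    {E : Subgroup (Cfsg.Sz F m)} (hE : Cfsg.IsElementaryAbelian 2 E) (hcard : Nat.card E = 2 ^ n)
    (hTI : ∀ x : Cfsg.Sz F m, E ⊓ E.map (MulAut.conj x).toMonoidHom ≠ ⊥ →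
        x ∈ Subgroup.normalizer (E : Set (Cfsg.Sz F m))) : n ∣ 2 * m + 1 := by
  have := finite_ovoid F m
  have hchar := charP_two hF
  have : Fact (Nat.Prime 2) := ⟨Nat.prime_two⟩
  have hpE : IsPGroup 2 E := IsPGroup.of_card hcard
  obtain ⟨P, hP⟩ := hpE.exists_le_sylow
  obtain ⟨y, rfl⟩ := MulAction.exists_smul_eq (Cfsg.Sz F m) (sylowQ hm hF) P
  -- every element of `E` is a conjugate of some `u 0 b`
  have hform : ∀ g ∈ E, ∃ b, g = y * u hF 0 b * y⁻¹ := by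
    intro g hg
    obtain ⟨a, b, hab⟩ := (mem_smul_sylowQ_iff hm hF y g).1 (hP hg)
    have h1 : u hF a b * u hF a b = 1 := by
      rw [← hab]
      have h2 : g * g = 1 := by rw [← pow_two]; exact hE.2 g hg
      calc y⁻¹ * g * y * (y⁻¹ * g * y) = y⁻¹ * (g * g) * y := by group
        _ = 1 := by rw [h2]; group
    rw [u_mul, u_eq_one_iff] at h1
    have ha : a = 0 := by
      have h3 : a ^ (2 ^ (m + 1)) * a = 0 := by
        have h4 := h1.2
        rwa [CharTwo.add_self_eq_zero, zero_add] at h4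
      rcases mul_eq_zero.1 h3 with h5 | h5
      · exact (pow_eq_zero_iff (sigma_ne_zero m)).1 h5
      · exact h5
    subst ha
    exact ⟨b, by rw [← hab]; group⟩
  let B : Set F := {b | y * u hF 0 b * y⁻¹ ∈ E}
  have hB0 : (0 : F) ∈ B := by
    show y * u hF 0 0 * y⁻¹ ∈ E
    rw [u_zero_zero, mul_one, mul_inv_cancel]
    exact one_mem _
  have hBadd : ∀ b ∈ B, ∀ c ∈ B, b + c ∈ B := by
    intro b hb c hc
    have h1 := mul_mem (show y * u hF 0 b * y⁻¹ ∈ E from hb) (show y * u hF 0 c * y⁻¹ ∈ E from hc)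
    have h2 : y * u hF 0 b * y⁻¹ * (y * u hF 0 c * y⁻¹) = y * u hF 0 (b + c) * y⁻¹ := by
      have h3 : u hF 0 b * u hF 0 c = u hF 0 (b + c) := by rw [u_mul]; simp
      rw [← h3]; group
    rw [h2] at h1
    exact h1
  have hBneg : ∀ b ∈ B, -b ∈ B := by
    intro b hb
    rwa [CharTwo.neg_eq]
  have hBmul : ∀ b ∈ B, ∀ b' ∈ B, ∀ c ∈ B, b ≠ 0 → b' / b * c ∈ B := by
    intro b hb b' hb' c hc hb0
    by_cases hb'0 : b' = 0
    · rw [hb'0, zero_div, zero_mul]; exact hB0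
    obtain ⟨k, hk0, hk⟩ := exists_pow_sigma_add_one hF (b' / b) (div_ne_zero hb'0 hb0)
    let κ : Fˣ := Units.mk0 k hk0
    have hconj : ∀ t : F, (y * h hF κ * y⁻¹) * (y * u hF 0 t * y⁻¹) * (y * h hF κ * y⁻¹)⁻¹ =
        y * u hF 0 (b' / b * t) * y⁻¹ := by
      intro t
      have h1 := conj_u_zero hF 0 0 t κ
      rw [u_zero_zero, one_mul] at h1
      have h2 : ((κ : F) ^ (2 ^ (m + 1) + 1)) = b' / b := hk
      rw [h2] at h1
      rw [← h1]
      group
    have hx : y * h hF κ * y⁻¹ ∈ Subgroup.normalizer (E : Set (Cfsg.Sz F m)) := by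
      apply hTI
      rw [Subgroup.ne_bot_iff_exists_ne_one]
      refine ⟨⟨y * u hF 0 b' * y⁻¹, hb', ?_⟩, ?_⟩
      · refine ⟨y * u hF 0 b * y⁻¹, hb, ?_⟩
        show (y * h hF κ * y⁻¹) * (y * u hF 0 b * y⁻¹) * (y * h hF κ * y⁻¹)⁻¹ = y * u hF 0 b' * y⁻¹
        rw [hconj]
        congr 3
        field_simp
      · intro e
        have h1 : y * u hF 0 b' * y⁻¹ = 1 := congrArg Subtype.val e
        rw [mul_inv_eq_one, mul_eq_left, u_eq_one_iff] at h1
        exact hb'0 h1.2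
    have h1 := (Subgroup.mem_normalizer_iff.1 hx _).1 hc
    rw [hconj] at h1
    exact h1
  -- the bijection with `E`
  have hcardB : Nat.card B = 2 ^ n := by
    rw [← hcard]
    refine Nat.card_congr (Equiv.ofBijective (fun b : B => (⟨y * u hF 0 b * y⁻¹, b.2⟩ : E)) ⟨?_, ?_⟩)
    · intro b c e
      have h1 : y * u hF 0 b * y⁻¹ = y * u hF 0 c * y⁻¹ := congrArg Subtype.val e
      have h2 := mul_left_cancel (mul_right_cancel h1)
      exact Subtype.ext ((u_eq_iff hF _ _ _ _).1 h2).2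
    · rintro ⟨g, hg⟩
      obtain ⟨b, rfl⟩ := hform g hg
      exact ⟨⟨b, hg⟩, rfl⟩
  obtain ⟨b₀, hb₀, hb₀0⟩ : ∃ b₀ ∈ B, b₀ ≠ 0 := by
    by_contra hcon
    push Not at hcon
    have h1 : B = {0} := Set.eq_singleton_iff_unique_mem.2 ⟨hB0, hcon⟩
    rw [h1] at hcardB
    have h2 : Nat.card ({0} : Set F) = 1 := by simp
    have h3 : 2 ^ 1 ≤ 2 ^ n := Nat.pow_le_pow_right (by norm_num) (by omega)
    omega
  obtain ⟨K, hK⟩ := exists_subfield_of_closed hB0 hBadd hBneg hBmul hb₀ hb₀0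
  apply dvd_of_subfield (F := F) (by rw [Nat.card_eq_fintype_card, hF]) K
  rw [← hcardB]
  refine Nat.card_congr (Equiv.ofBijective (fun z : K => (⟨z * b₀, (hK z).1 z.2⟩ : B)) ⟨?_, ?_⟩)
  · intro z z' e
    exact Subtype.ext (mul_right_cancel₀ hb₀0 (congrArg Subtype.val e))
  · rintro ⟨b, hb⟩
    have h1 : b / b₀ * b₀ = b := by field_simp
    exact ⟨⟨b / b₀, (hK _).2 (by rw [h1]; exact hb)⟩, Subtype.ext h1⟩

end Cfsg.Agent.H98.SzTI
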